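import Cfsg.Agent.Lib.SmallOrders.PrincipalDegree

/-!
# Searches for a simple group of order `6048`
-/

namespace CfsgLib.U33Recog

open Cfsg CfsgLib.SmallOrders

set_option autoImplicit false

/-- The degrees cannot be `8, 27, 18`: no values at an involution. -/
theorem no_values_bool : (List.range 17).all (fun i => (List.range 55).all fun j =>
    let u : ℤ := (i : ℤ) - 8
    let w : ℤ := (j : ℤ) - 27
    !(decide (u % 2 = 0) && !decide (w % 2 = 0) && !decide (u = 8) && !decide (w = 27) &&
      decide (216 + 27 * (u * u) - 8 * (w * w) + 12 * ((1 + u - w) * (1 + u - w)) = 0))) = true := by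
  decide +kernel

/-- The degrees cannot be `8, 27, 18`: no values at an involution. -/
theorem no_values (i : ℕ) (hi : i < 17) (j : ℕ) (hj : j < 55) (h1 : ((i : ℤ) - 8) % 2 = 0)
    (h2 : ((j : ℤ) - 27) % 2 ≠ 0) (h3 : (i : ℤ) - 8 ≠ 8) (h4 : (j : ℤ) - 27 ≠ 27) :
    216 + 27 * ((i : ℤ) - 8) ^ 2 - 8 * ((j : ℤ) - 27) ^ 2 +
      12 * (1 + ((i : ℤ) - 8) - ((j : ℤ) - 27)) ^ 2 ≠ 0 := by
  have h := List.all_eq_true.1 (List.all_eq_true.1 no_values_bool i (List.mem_range.2 hi)) j
    (List.mem_range.2 hj)
  simp only [Bool.not_eq_true', Bool.and_eq_false_iff, decide_eq_false_iff_not, Bool.not_eq_false',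
    decide_eq_true_eq] at h
  simp only [sq]
  tauto

/-- The test applied to a centraliser order and three values at an element of order `3`. -/
def threeOk (c : ℕ) (v w : ℤ) : Bool :=
  let t := v + w - 1
  let h : ℤ := ((6048 / c : ℕ) : ℤ)
  let n := 1 + v * v + w * w + 2 * t * t
  let E := 864 - 144 * v * v - 32 * w * w + 27 * t * t
  let s := 1 + 6 * v + 27 * w + 64 * t
  decide (n ≤ (c : ℤ)) && decide (h * v % 6 = 0) && decide (h * w % 27 = 0) &&
    decide (h * t % 32 = 0) && decide (s % 7 = 0) && decide (s / 7 * (s / 7) ≤ 66 * ((c : ℤ) - n)) &&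
    decide (0 ≤ E) && decide (7 * E % ((c : ℤ) * c) = 0)

/-- The possible centraliser orders and values at an element of order `3`. -/
theorem three_search_bool : ([9, 18, 27, 36, 54, 72, 108, 144, 216, 288, 432, 864] : List ℕ).all
    (fun c => (List.range 5).all fun i => (List.range 19).all fun j =>
      !threeOk c (3 * (i : ℤ) - 6) (3 * (j : ℤ) - 27) || (c == 9 && i == 2) || (c == 108 && i == 1))
      = true := by
  decide +kernel

/-- The possible centraliser orders and values at an element of order `3`. -/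
theorem three_search {c i j : ℕ}
    (hc : c ∈ ([9, 18, 27, 36, 54, 72, 108, 144, 216, 288, 432, 864] : List ℕ)) (hi : i < 5)
    (hj : j < 19) (h : threeOk c (3 * (i : ℤ) - 6) (3 * (j : ℤ) - 27) = true) :
    (c = 9 ∧ i = 2) ∨ (c = 108 ∧ i = 1) := by
  have h' := List.all_eq_true.1 (List.all_eq_true.1 (List.all_eq_true.1 three_search_bool c hc) i
    (List.mem_range.2 hi)) j (List.mem_range.2 hj)
  rw [h] at h'
  simpa using h'

/-- The signed degrees in the principal block. -/
theorem degree_cases : ∀ a ∈ cands 7 864 (7 * 864) 2 1, ∀ b ∈ cands 7 864 (7 * 864) 2 1,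
    degOk 7 864 (7 * 864) 2 3 [a, b] = true →
      (a, b) ∈ ([(-6, 8), (8, -6), (-6, -27), (-27, -6), (8, -27), (-27, 8)] : List (ℤ × ℤ)) := by
  decide +kernel

end CfsgLib.U33Recog
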