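import Cfsg.Agent.Lib.SmallOrders.Order5616Chars
import Cfsg.Agent.Lib.U33Degrees.Degrees
import Cfsg.Agent.Lib.U33Recog.Search

/-!
# The principal `7`-block of a simple group of order `6048`
-/

namespace CfsgLib.U33Recog

open Cfsg CfsgLib.CharTheory CfsgLib.Blocks CfsgLib.SmallOrders
open scoped ComplexConjugate

set_option autoImplicit false
set_option linter.unusedVariables false
set_option linter.style.haveILetI false
set_option linter.unusedSectionVars false
set_option maxHeartbeats 1000000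

universe u

variable {G : Type u} [Group G] [Fintype G]

/-- A character vanishing off the identity of a subgroup of order seven. -/
theorem seven_dvd {P : Subgroup G} (hP : Nat.card P = 7) {χ : IrrCharacter G}
    (hv : ∀ x ∈ P, x ≠ 1 → (χ : G → ℂ) x = 0) : 7 ∣ charDegree (χ : G → ℂ) := by
  classical
  haveI : Fintype P := Fintype.ofFinite _
  obtain ⟨n, hn⟩ := classInner_char_nat (isCharacter_restrict (isCharacter_of_irr χ.2) P)
    (isCharacter_one (G := P))
  rw [classInner, hP, Finset.sum_eq_single (1 : P)] at hn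
  · simp only [Subgroup.coe_one, map_one, mul_one, ← irr_charDegree_cast] at hn
    refine ⟨n, ?_⟩
    have : ((charDegree (χ : G → ℂ) : ℕ) : ℂ) = ((7 * n : ℕ) : ℂ) := by
      push_cast at hn ⊢; linear_combination (7 : ℂ) * hn
    exact_mod_cast this
  · intro y _ hy
    rw [hv y y.2 fun h => hy (Subtype.ext h), zero_mul]
  · simp

/-- The value at an element of order `3` of a character equal there to its conjugate. -/
theorem exists_value_three (χ : IrrCharacter G) {g : G} (hg : orderOf g = 3)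
    (heq : (χ : G → ℂ) g⁻¹ = (χ : G → ℂ) g) :
    ∃ (v : ℤ) (n : ℕ), (χ : G → ℂ) g = (v : ℂ) ∧
      (charDegree (χ : G → ℂ) : ℤ) + 2 * v = 3 * n := by
  classical
  set H := Subgroup.zpowers g with hH
  haveI : Fintype H := Fintype.ofFinite _
  obtain ⟨n, hn⟩ := classInner_char_nat
    (isCharacter_restrict (isCharacter_of_irr χ.2) H) (isCharacter_one (G := H))
  have hcard : Nat.card H = 3 := by rw [hH, Nat.card_zpowers, hg]
  have hg1 : g ≠ 1 := fun h => by rw [h, orderOf_one] at hg; omega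
  set a : H := ⟨g, Subgroup.mem_zpowers g⟩ with ha
  have ha1 : a ≠ 1 := fun h => hg1 (congrArg Subtype.val h)
  have hai1 : a⁻¹ ≠ 1 := fun h => ha1 (inv_eq_one.1 h)
  have hne : a⁻¹ ≠ a := fun h => by
    have h2 : g * g = 1 := by
      have := congrArg Subtype.val h
      simp only [InvMemClass.coe_inv] at this
      rw [ha] at this
      calc g * g = g⁻¹ * g := by rw [this]
        _ = 1 := inv_mul_cancel g
    have : orderOf g ∣ 2 := orderOf_dvd_of_pow_eq_one (by rw [sq, h2])
    rw [hg] at this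
    omega
  have huniv : (Finset.univ : Finset H) = {1, a, a⁻¹} :=
    (Finset.eq_univ_of_card _ (by
      rw [Finset.card_eq_three.2 ⟨1, a, a⁻¹, ha1.symm, hai1.symm, hne.symm, rfl⟩,
        ← Nat.card_eq_fintype_card, hcard])).symm
  rw [classInner, hcard, huniv, Finset.sum_insert (by simp [ha1.symm, hai1.symm]),
    Finset.sum_pair hne.symm] at hn
  simp only [map_one, mul_one, Subgroup.coe_one, InvMemClass.coe_inv, ← irr_charDegree_cast] at hn
  rw [heq] at hn
  have hint : IsIntegral ℤ ((((3 * (n : ℤ) - charDegree (χ : G → ℂ) : ℤ) : ℚ) / 2 : ℚ) : ℂ) := by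
    rw [show ((((3 * (n : ℤ) - charDegree (χ : G → ℂ) : ℤ) : ℚ) / 2 : ℚ) : ℂ) = (χ : G → ℂ) g by
      push_cast at hn ⊢; linear_combination (-(3 : ℂ) / 2) * hn]
    exact isIntegral_of_char (isCharacter_of_irr χ.2) g
  obtain ⟨v, hv⟩ := exists_int_of_isIntegral_ratCast hint
  have hv' : 3 * (n : ℤ) - charDegree (χ : G → ℂ) = 2 * v := by
    have : ((3 * (n : ℤ) - charDegree (χ : G → ℂ) : ℤ) : ℚ) = ((2 * v : ℤ) : ℚ) := by
      push_cast
      push_cast at hv
      linarith
    exact_mod_cast this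
  refine ⟨v, n, ?_, by omega⟩
  have hv2 : ((3 * (n : ℤ) - charDegree (χ : G → ℂ) : ℤ) : ℂ) = ((2 * v : ℤ) : ℂ) := by rw [hv']
  push_cast at hn hv2 ⊢
  linear_combination (3 / 2 : ℂ) * hn + (1 / 2 : ℂ) * hv2

/-- A non-trivial element of a subgroup of order `27` has order three if none has order nine. -/
theorem order_three {Q : Sylow 3 G} (hQ : Nat.card Q = 27) (h9 : ∀ x : G, orderOf x ≠ 9) {y : G}
    (hy : y ∈ (Q : Subgroup G)) (h1 : y ≠ 1) : orderOf y = 3 := by
  have hd : orderOf y ∣ 3 ^ 3 := by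
    rw [show (3 : ℕ) ^ 3 = Nat.card Q from hQ.symm]
    exact Subgroup.orderOf_dvd_natCard _ hy
  obtain ⟨k, hk, hk'⟩ := (Nat.dvd_prime_pow Nat.prime_three).1 hd
  have h0 : k ≠ 0 := fun e => h1 (orderOf_eq_one_iff.1 (by rw [hk', e, pow_zero]))
  have h2 : k ≠ 2 := fun e => h9 y (by rw [hk', e]; norm_num)
  have h3 : k ≠ 3 := fun e => h9 (y ^ 3) (by
    rw [orderOf_pow_of_dvd (by norm_num) (by rw [hk', e]; norm_num), hk', e]; norm_num)
  rw [hk', show k = 1 by omega, pow_one]

/-- A character whose degree is prime to seven and not shared in the principal block is real. -/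
theorem conj_fix [IsSimpleGroup G] [hp : Fact (Nat.Prime 7)] {M : Ideal AlgInt} {P : Sylow 7 G}
    (hM : IsPModular 7 M) (hP : Nat.card P = 7)
    (hC : Nat.card (Subgroup.centralizer ((P : Subgroup G) : Set G)) = 7)
    (hval : (Nat.card G).factorization 7 = 1) {e : ℕ} (S : Shape 7 M (P : Subgroup G) e)
    {χ : IrrCharacter G} (h1 : ¬ 7 ∣ charDegree (χ : G → ℂ)) (hne : χ ≠ oneIrr G)
    (huniq : ∀ φ : IrrCharacter G, φ ∈ S.X ∨ φ ∈ S.Y →
      charDegree (φ : G → ℂ) = charDegree (χ : G → ℂ) → φ = χ) (g : G) :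
    (χ : G → ℂ) g⁻¹ = (χ : G → ℂ) g := by
  have hd : charDegree (conjIrr χ : G → ℂ) = charDegree (χ : G → ℂ) := by
    have : (charDegree (conjIrr χ : G → ℂ) : ℂ) = (charDegree (χ : G → ℂ) : ℂ) := by
      rw [irr_charDegree_cast, conjIrr_apply, ← irr_charDegree_cast, map_natCast]
    exact_mod_cast this
  have hblock : conjIrr χ ∈ principalBlock M G := by
    by_contra hout
    exact h1 (hd ▸ seven_dvd hP fun x hx hx1 => vanish_outside hM hP hC hval hout hx hx1)
  rcases (S.block _).1 hblock with h | h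
  · exfalso
    refine hne (Subtype.ext (funext fun y => ?_))
    have := congrArg (fun φ : IrrCharacter G => conj ((φ : G → ℂ) y)) h
    simp only [conjIrr_apply, Complex.conj_conj] at this
    rw [this, show ((oneIrr G : IrrCharacter G) : G → ℂ) y = 1 from rfl, map_one]
  · have := congrArg (fun φ : IrrCharacter G => (φ : G → ℂ) g) (huniq _ h hd)
    simp only [conjIrr_apply] at this
    rw [irr_inv, this]

/-- No exceptional character has degree three. -/
theorem no_deg_three [IsSimpleGroup G] [hp : Fact (Nat.Prime 7)] (hN : Nat.card G = 6048)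
    (h9 : ∀ x : G, orderOf x ≠ 9) {M : Ideal AlgInt} {P : Sylow 7 G} (hM : IsPModular 7 M)
    (hP : Nat.card P = 7) (hC : Nat.card (Subgroup.centralizer ((P : Subgroup G) : Set G)) = 7)
    (hval : (Nat.card G).factorization 7 = 1) (S : Shape 7 M (P : Subgroup G) 3)
    {ψ a b : IrrCharacter G} (hψ : ψ ∈ S.Y) (hab : a ≠ b) (hX : S.X = {a, b})
    (ha : S.δ a * (charDegree (a : G → ℂ) : ℤ) = -6) (hb : S.δ b * (charDegree (b : G → ℂ) : ℤ) = 8) :
    False := by
  classical
  haveI : Fact (Nat.Prime 3) := ⟨Nat.prime_three⟩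
  have haX : a ∈ S.X := by simp [hX]
  have hbX : b ∈ S.X := by simp [hX]
  have hda : S.δ a = -1 ∧ charDegree (a : G → ℂ) = 6 := by
    rcases S.sign a haX with e | e <;> rw [e] at ha <;> omega
  have hdb : S.δ b = 1 ∧ charDegree (b : G → ℂ) = 8 := by
    rcases S.sign b hbX with e | e <;> rw [e] at hb <;> omega
  have hrel := S.degree_relation hp.out hψ
  rw [hX, Finset.sum_pair hab, hda.1, hda.2, hdb.1, hdb.2] at hrel
  have hψd : S.ε = 1 ∧ charDegree (ψ : G → ℂ) = 3 := by
    rcases S.signY with e | e <;> rw [e] at hrel <;> omega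
  have huniq : ∀ φ : IrrCharacter G, φ ∈ S.X ∨ φ ∈ S.Y →
      φ = a ∨ φ = b ∨ charDegree (φ : G → ℂ) = 3 := by
    rintro φ (h | h)
    · rw [hX, Finset.mem_insert, Finset.mem_singleton] at h
      tauto
    · exact Or.inr (Or.inr ((S.charDegree_eq hp.out h hψ).trans hψd.2))
  have hra := fun g => conj_fix hM hP hC hval S (χ := a) (by rw [hda.2]; norm_num)
    (fun h => S.one_notX (h ▸ haX)) (fun φ hφ hd => by
      rcases huniq φ hφ with h | h | h
      · exact h
      · subst h; omega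
      · omega) g
  have hrb := fun g => conj_fix hM hP hC hval S (χ := b) (by rw [hdb.2]; norm_num)
    (fun h => S.one_notX (h ▸ hbX)) (fun φ hφ hd => by
      rcases huniq φ hφ with h | h | h
      · subst h; omega
      · exact h
      · omega) g
  have hψne : ψ ≠ oneIrr G := fun e => S.one_notY (e ▸ hψ)
  have hr : ∀ x : G, orderOf x = 3 →
      (ψ : G → ℂ) x = 1 - (a : G → ℂ) x + (b : G → ℂ) x := fun x hx => by
    have := S.relY ψ hψ x (by rw [hx]; norm_num)
    rw [hX, Finset.sum_pair hab, hda.1, hdb.1, hψd.1] at this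
    push_cast at this
    linear_combination this
  have hzero : ∀ g : G, orderOf g = 3 → (ψ : G → ℂ) g = 0 := by
    intro g hg
    obtain ⟨v, n, hv, hn⟩ := exists_value_three ψ hg (by
      rw [hr g⁻¹ (by rw [orderOf_inv, hg]), hr g hg, hra, hrb])
    rw [hψd.2] at hn
    have hle := norm_char_le (isCharacter_of_irr ψ.2) g
    rw [hv, ← irr_charDegree_cast, hψd.2, Complex.norm_intCast, Complex.norm_natCast] at hle
    have hle' : |v| ≤ 3 := by exact_mod_cast hle
    rw [abs_le] at hle'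
    have hv3 : v ≠ 3 := fun e => by
      have := eq_one_of_apply_eq_apply_one hψne (y := g) (by
        rw [hv, ← irr_charDegree_cast, hψd.2, e]; norm_num)
      rw [this, orderOf_one] at hg
      omega
    rw [hv, show v = 0 by omega, Int.cast_zero]
  obtain ⟨Q⟩ : Nonempty (Sylow 3 G) := inferInstance
  have hQ : Nat.card Q = 27 := by
    have := SmallOrder.card_sylow_eq (k := 3) Q (by rw [hN]; norm_num) (by rw [hN]; norm_num)
    simpa using this
  obtain ⟨m, hm⟩ := classInner_char_nat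
    (isCharacter_restrict (isCharacter_of_irr ψ.2) (Q : Subgroup G)) (isCharacter_one (G := (Q : Subgroup G)))
  rw [classInner, show Nat.card (Q : Subgroup G) = 27 from hQ,
    Finset.sum_eq_single (1 : (Q : Subgroup G))] at hm
  · simp only [Subgroup.coe_one, map_one, mul_one, ← irr_charDegree_cast, hψd.2] at hm
    have : ((3 : ℕ) : ℂ) = ((27 * m : ℕ) : ℂ) := by
      push_cast at hm ⊢; linear_combination (27 : ℂ) * hm
    have := Nat.cast_inj.1 this
    omega
  · intro y _ hy
    rw [hzero y (order_three hQ h9 y.2 fun h => hy (Subtype.ext h)), zero_mul]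
  · simp

/-- What the principal `7`-block gives. -/
structure CharData (G : Type u) [Group G] [Fintype G] where
  P : Sylow 7 G
  cardP : Nat.card P = 7
  centP : Nat.card (Subgroup.centralizer ((P : Subgroup G) : Set G)) = 7
  a : IrrCharacter G
  b : IrrCharacter G
  Y : Finset (IrrCharacter G)
  a_ne : a ≠ oneIrr G
  b_ne : b ≠ oneIrr G
  ab_ne : a ≠ b
  one_notY : oneIrr G ∉ Y
  a_notY : a ∉ Y
  b_notY : b ∉ Y
  cardY : Y.card = 2
  deg_a : charDegree (a : G → ℂ) = 6
  deg_b : charDegree (b : G → ℂ) = 27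
  deg_Y : ∀ ψ ∈ Y, charDegree (ψ : G → ℂ) = 32
  real_a : ∀ g : G, (a : G → ℂ) g⁻¹ = (a : G → ℂ) g
  real_b : ∀ g : G, (b : G → ℂ) g⁻¹ = (b : G → ℂ) g
  relY : ∀ ψ ∈ Y, ∀ g : G, ¬ 7 ∣ orderOf g → (ψ : G → ℂ) g = (a : G → ℂ) g + (b : G → ℂ) g - 1
  outside : ∀ χ : IrrCharacter G, χ ≠ oneIrr G → χ ≠ a → χ ≠ b → χ ∉ Y →
    7 ∣ charDegree (χ : G → ℂ)
  pairCount_eq : ∀ x ∈ (P : Subgroup G), x ≠ 1 → ∀ z : G, ¬ 7 ∣ orderOf z →
    (pairCount z z x : ℂ) * (Nat.card (Subgroup.centralizer ({z} : Set G)) : ℂ) ^ 2 =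
      7 * (864 - 144 * (a : G → ℂ) z ^ 2 - 32 * (b : G → ℂ) z ^ 2 +
        27 * ((a : G → ℂ) z + (b : G → ℂ) z - 1) ^ 2)

/-- The principal `7`-block. -/
theorem exists_charData [IsSimpleGroup G] (hN : Nat.card G = 6048) (h9 : ∀ x : G, orderOf x ≠ 9) :
    Nonempty (CharData G) := by
  classical
  haveI hp : Fact (Nat.Prime 7) := ⟨by norm_num⟩
  have hN' : Nat.card G = 7 * 864 := hN.trans (by norm_num)
  have hna := not_comm hN (by norm_num)
  obtain ⟨M, P, n, e, S, hM, hP, hC, hNe, hmem⟩ := mem_exceptions (p := 7) (m := 864)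
    (exc := [(288, 3)]) (by norm_num) hN' (by norm_num) (by norm_num) (by decide +kernel)
  obtain ⟨rfl, rfl⟩ : n = 288 ∧ e = 3 := by simpa using hmem
  have hC7 : Nat.card (Subgroup.centralizer ((P : Subgroup G) : Set G)) = 7 := by omega
  have hN7 : Nat.card (Subgroup.normalizer ((P : Subgroup G) : Set G)) = 21 := by rw [hNe, hC7]
  have hval : (Nat.card G).factorization 7 = 1 := by
    rw [hN', Nat.factorization_mul (by norm_num) (by norm_num), Finsupp.add_apply,
      hp.out.factorization_self, Nat.factorization_eq_zero_of_not_dvd (by norm_num)]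
  obtain ⟨c₁, c₂, hne, hX⟩ := Finset.card_eq_two.1 S.cardX
  obtain ⟨ψ, hψ⟩ : S.Y.Nonempty := Finset.card_pos.1 (S.cardY ▸ S.cardY_pos)
  set s : IrrCharacter G → ℤ := fun χ => S.δ χ * (charDegree (χ : G → ℂ) : ℤ) with hs
  have hneX : ∀ χ ∈ S.X, χ ≠ oneIrr G := fun χ hχ e => S.one_notX (e ▸ hχ)
  have hsq := S.sum_sq_degree_le
  have hcand : ∀ χ ∈ S.X, s χ ∈ cands 7 864 (7 * 864) 2 1 := by
    intro χ hχ
    have hn := natAbs_sign_mul (S.sign χ hχ) (charDegree (χ : G → ℂ))
    refine mem_cands (by norm_num) ?_ (by rw [hs, hn]; exact two_le_charDegree hna (hneX χ hχ))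
      (S.degX χ hχ) ?_
    · rw [hs, hn]
      refine dvd_of_dvd_mul_prime hp.out (hN' ▸ charDegree_dvd_card χ) fun hd => ?_
      have := dvd_sub (dvd_mul_of_dvd_right (Int.natCast_dvd_natCast.2 hd) (S.δ χ)) (S.degX χ hχ)
      simp only [sub_sub_cancel] at this
      norm_num at this
    · rw [hs, hn, ← sq]
      have h9 : charDegree (χ : G → ℂ) ^ 2 ≤ ∑ φ ∈ S.X, charDegree (φ : G → ℂ) ^ 2 :=
        Finset.single_le_sum (f := fun φ : IrrCharacter G => charDegree (φ : G → ℂ) ^ 2)
          (fun _ _ => Nat.zero_le _) hχ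
      omega
  have hrel := S.degree_relation hp.out hψ
  rw [hX, Finset.sum_pair hne] at hrel
  have hokk : degOk 7 864 (7 * 864) 2 3 [s c₁, s c₂] = true := by
    have hn := natAbs_sign_mul S.signY (charDegree (ψ : G → ℂ))
    have hsum : 1 + [s c₁, s c₂].sum = S.ε * charDegree (ψ : G → ℂ) := by simp [hs, hrel]
    simp only [degOk, Bool.and_eq_true, decide_eq_true_eq, hsum, hn]
    refine ⟨⟨⟨?_, two_le_charDegree hna fun e => S.one_notY (e ▸ hψ)⟩,
      Int.emod_eq_zero_of_dvd (S.degY ψ hψ)⟩, ?_⟩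
    · refine dvd_of_dvd_mul_prime hp.out (hN' ▸ charDegree_dvd_card ψ) fun hd => ?_
      have := dvd_sub (dvd_mul_of_dvd_right (Int.natCast_dvd_natCast.2 hd) S.ε) (S.degY ψ hψ)
      simp only [sub_sub_cancel] at this
      norm_num at this
    refine le_trans (le_of_eq ?_) (hN' ▸ hsq)
    rw [Finset.sum_congr (s₁ := S.Y) rfl fun φ hφ => by rw [S.charDegree_eq hp.out hφ hψ],
      Finset.sum_const, S.cardY, smul_eq_mul, hX, Finset.sum_pair hne]
    simp [hs, natAbs_sign_mul (S.sign c₁ (by simp [hX])), natAbs_sign_mul (S.sign c₂ (by simp [hX])), sq]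
  have hres := degree_cases _ (hcand c₁ (by simp [hX])) _ (hcand c₂ (by simp [hX])) hokk
  have hdeg : ∀ χ : IrrCharacter G, ∀ d : ℕ, charDegree (χ : G → ℂ) = d → (χ : G → ℂ) 1 = (d : ℂ) :=
    fun χ d hd => by rw [← irr_charDegree_cast, hd]
  obtain ⟨a, b, hab, hXab, hb, ha⟩ :
      ∃ a b, a ≠ b ∧ S.X = {a, b} ∧ s b = -27 ∧ (s a = -6 ∨ s a = 8) := by
    simp only [List.mem_cons, List.not_mem_nil, or_false, Prod.mk.injEq] at hres
    rcases hres with ⟨h, h'⟩ | ⟨h, h'⟩ | ⟨h, h'⟩ | ⟨h, h'⟩ | ⟨h, h'⟩ | ⟨h, h'⟩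
    · exact (no_deg_three hN h9 hM hP hC7 hval S hψ hne hX h h').elim
    · exact (no_deg_three hN h9 hM hP hC7 hval S hψ hne.symm (by rw [hX, Finset.pair_comm]) h' h).elim
    · exact ⟨c₁, c₂, hne, hX, h', Or.inl h⟩
    · exact ⟨c₂, c₁, hne.symm, by rw [hX, Finset.pair_comm], h, Or.inl h'⟩
    · exact ⟨c₁, c₂, hne, hX, h', Or.inr h⟩
    · exact ⟨c₂, c₁, hne.symm, by rw [hX, Finset.pair_comm], h, Or.inr h'⟩
  have haX : a ∈ S.X := by simp [hXab]
  have hbX : b ∈ S.X := by simp [hXab]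
  have hδb : S.δ b = -1 ∧ charDegree (b : G → ℂ) = 27 := by
    rcases S.sign b hbX with e | e <;> simp only [hs, e] at hb <;> omega
  have hr := S.degree_relation hp.out hψ
  rw [hXab, Finset.sum_pair hab, hδb.1, hδb.2] at hr
  have hkey : (S.δ a = -1 ∧ charDegree (a : G → ℂ) = 6 ∧ charDegree (ψ : G → ℂ) = 32 ∨
      S.δ a = 1 ∧ charDegree (a : G → ℂ) = 8 ∧ charDegree (ψ : G → ℂ) = 18) ∧ S.ε = -1 := by
    rcases S.sign a haX with e1 | e1 <;> rcases S.signY with e2 | e2 <;> rcases ha with h | h <;>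
      simp only [hs, e1] at h <;> rw [e1, e2] at hr <;>
      first
        | omega
        | exact ⟨Or.inl ⟨e1, by omega, by omega⟩, e2⟩
        | exact ⟨Or.inr ⟨e1, by omega, by omega⟩, e2⟩
  obtain ⟨hcase, hε⟩ := hkey
  have hYd : ∀ φ ∈ S.Y, charDegree (φ : G → ℂ) = charDegree (ψ : G → ℂ) :=
    fun φ hφ => S.charDegree_eq hp.out hφ hψ
  have hrelY : ∀ φ ∈ S.Y, ∀ g : G, ¬ 7 ∣ orderOf g →
      (φ : G → ℂ) g = (b : G → ℂ) g - (S.δ a : ℂ) * (a : G → ℂ) g - 1 := by
    intro φ hφ g hg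
    have := S.relY φ hφ g hg
    rw [hXab, Finset.sum_pair hab, hδb.1, hε] at this
    push_cast at this
    linear_combination (-1 : ℂ) * this
  -- the class equation
  have hpair : ∀ x ∈ (P : Subgroup G), x ≠ 1 → ∀ z : G, ¬ 7 ∣ orderOf z →
      (pairCount z z x : ℂ) * (Nat.card (Subgroup.centralizer ({z} : Set G)) : ℂ) ^ 2 =
        6048 * (1 + (a : G → ℂ) z ^ 2 / (charDegree (a : G → ℂ) : ℂ) * (S.δ a : ℂ) -
          (b : G → ℂ) z ^ 2 / 27 + ((b : G → ℂ) z - (S.δ a : ℂ) * (a : G → ℂ) z - 1) ^ 2 /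
            (charDegree (ψ : G → ℂ) : ℂ)) := by
    intro x hx hx1 z hz
    have hY : ∑ φ ∈ S.Y, (φ : G → ℂ) z ^ 2 / (φ : G → ℂ) 1 * conj ((φ : G → ℂ) x) =
        ((b : G → ℂ) z - (S.δ a : ℂ) * (a : G → ℂ) z - 1) ^ 2 / (charDegree (ψ : G → ℂ) : ℂ) := by
      rw [Finset.sum_congr rfl fun φ hφ => by rw [hrelY φ hφ z hz, hdeg φ _ (hYd φ hφ)],
        ← Finset.mul_sum, ← map_sum, S.sumY x hx hx1, hε]
      simp
    rw [pairCount_block hM hP hC7 hval S hx hx1 z, hY, hXab, Finset.sum_pair hab,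
      hdeg b 27 hδb.2, hdeg a _ rfl, hδb.1, hN]
    push_cast
    ring
  rcases hcase with ⟨hδa, hda, hdψ⟩ | ⟨hδa, hda, hdψ⟩
  swap
  · -- no values at an involution
    exfalso
    obtain ⟨t, ht⟩ := exists_prime_orderOf_dvd_card' (G := G) 2 (by rw [hN]; norm_num)
    obtain ⟨x, hx, hx1⟩ : ∃ x ∈ (P : Subgroup G), x ≠ 1 :=
      ((Subgroup.bot_or_exists_ne_one (P : Subgroup G)).resolve_left fun hb => by
        have : Nat.card (P : Subgroup G) = 7 := hP
        rw [hb, Subgroup.card_bot] at this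
        omega)
    have h0 : pairCount t t x = 0 := by
      refine Finite.card_eq_zero_iff.2 ⟨?_⟩
      rintro ⟨u, hu1, hu2⟩
      have hinv2 : ∀ w : G, IsConj t w → w * w = 1 := fun w hw => by
        obtain ⟨r, rfl⟩ := isConj_iff.1 hw
        rw [show r * t * r⁻¹ * (r * t * r⁻¹) = r * (t * t) * r⁻¹ by group, ← sq, ← ht,
          pow_orderOf_eq_one, mul_one, mul_inv_cancel]
      have huu := hinv2 u hu1
      have hu' : u⁻¹ = u := inv_eq_of_mul_eq_one_left huu
      have h2 := hinv2 _ hu2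
      rw [hu'] at h2
      have hux : u * x * u⁻¹ = x⁻¹ := by
        rw [hu']
        exact eq_inv_of_mul_eq_one_left (by rw [← h2]; group)
      have huN : u ∈ Subgroup.normalizer ((P : Subgroup G) : Set G) := by
        have hmap : (P : Subgroup G).map (MulAut.conj u).toMonoidHom = (P : Subgroup G) := by
          rw [← zpowers_eq hP hx hx1, MonoidHom.map_zpowers]
          simp [hux]
        refine Subgroup.mem_normalizer_iff.2 fun n => ⟨fun hn => ?_, fun hn => ?_⟩
        · rw [← hmap]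
          exact ⟨n, hn, rfl⟩
        · rw [← hmap] at hn
          obtain ⟨m, hm, hmn⟩ := hn
          have h : m = n := (MulAut.conj u).injective hmn
          exact h ▸ hm
      have hu2' : orderOf u = 2 := by
        refine orderOf_eq_prime (by rw [sq, huu]) fun e => ?_
        obtain ⟨r, hr⟩ := isConj_iff.1 hu1
        rw [e, conj_eq_one_iff] at hr
        rw [hr, orderOf_one] at ht
        omega
      have := Subgroup.orderOf_dvd_natCard _ huN
      rw [hu2', hN7] at this
      omega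
    obtain ⟨va, hva, hla, hpa, hnea⟩ := exists_value (hneX a haX) ht
    obtain ⟨vb, hvb, hlb, hpb, hneb⟩ := exists_value (hneX b hbX) ht
    have h := hpair x hx hx1 t (by rw [ht]; norm_num)
    rw [h0, hva, hvb, hda, hdψ, hδa] at h
    have hint : 216 + 27 * va ^ 2 - 8 * vb ^ 2 + 12 * (1 + va - vb) ^ 2 = (0 : ℤ) := by
      apply Int.cast_injective (α := ℂ)
      push_cast at h ⊢
      linear_combination (-(216 : ℂ) / 6048) * h
    rw [hda] at hla hpa hnea
    rw [hδb.2] at hlb hpb hneb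
    refine no_values (va + 8).toNat (by omega) (vb + 27).toNat (by omega) (by omega) (by omega)
      (by omega) (by omega) ?_
    rwa [show ((va + 8).toNat : ℤ) - 8 = va by omega, show ((vb + 27).toNat : ℤ) - 27 = vb by omega]
  have huniq : ∀ φ : IrrCharacter G, φ ∈ S.X ∨ φ ∈ S.Y →
      φ = a ∨ φ = b ∨ charDegree (φ : G → ℂ) = 32 := by
    rintro φ (h | h)
    · rw [hXab, Finset.mem_insert, Finset.mem_singleton] at h
      tauto
    · exact Or.inr (Or.inr ((hYd φ h).trans hdψ))
  refine ⟨{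
    P := P, cardP := hP, centP := hC7
    a := a, b := b, Y := S.Y
    a_ne := hneX a haX, b_ne := hneX b hbX, ab_ne := hab
    one_notY := S.one_notY
    a_notY := fun e => Finset.disjoint_left.1 S.disj haX e
    b_notY := fun e => Finset.disjoint_left.1 S.disj hbX e
    cardY := by rw [S.cardY]
    deg_a := hda
    deg_b := hδb.2
    deg_Y := fun φ hφ => (hYd φ hφ).trans hdψ
    real_a := conj_fix hM hP hC7 hval S (by rw [hda]; norm_num) (hneX a haX) (fun φ hφ hd => by
      rcases huniq φ hφ with h | h | h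
      · exact h
      · subst h; omega
      · omega)
    real_b := conj_fix hM hP hC7 hval S (by rw [hδb.2]; norm_num) (hneX b hbX) (fun φ hφ hd => by
      rcases huniq φ hφ with h | h | h
      · subst h; omega
      · exact h
      · omega)
    relY := fun φ hφ g hg => by rw [hrelY φ hφ g hg, hδa]; push_cast; ring
    outside := fun χ h1 h2 h3 h4 => seven_dvd hP fun x hx hx1 =>
      vanish_outside hM hP hC7 hval (by
        rw [S.block, hXab]
        simp [h1, h2, h3, h4]) hx hx1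
    pairCount_eq := fun x hx hx1 z hz => ?_ }⟩
  rw [hpair x hx hx1 z hz, hda, hdψ, hδa]
  push_cast
  ring

end CfsgLib.U33Recog
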