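import Cfsg.Agent.Lib.U33Recog.Unique

/-!
# The automorphism group of a simple group of order `6048`
-/

namespace CfsgLib.U33Recog

open scoped Pointwise

set_option autoImplicit false
set_option linter.unusedVariables false
set_option linter.style.haveILetI false
set_option linter.unusedSectionVars false
set_option maxHeartbeats 800000

universe u

variable {G : Type u} [Group G] [Finite G]

theorem aut_smul_smul (α : MulAut G) (g : G) (R : Sylow 3 G) : α • (g • R) = α g • (α • R) := by
  refine Sylow.ext ?_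
  show α • (MulAut.conj g • (R : Subgroup G)) = MulAut.conj (α g) • (α • (R : Subgroup G))
  rw [← mul_smul, ← mul_smul]
  congr 1
  ext x
  simp [MulAut.smul_def]

theorem aut_mem {α : MulAut G} {P : Sylow 3 G} (hP : α • P = P) {q : G} (hq : q ∈ (P : Subgroup G)) :
    α q ∈ (P : Subgroup G) := by
  have h : α • q ∈ (α • P : Sylow 3 G).1 := Subgroup.smul_mem_pointwise_smul q α _ hq
  rw [hP] at h
  exact h

namespace Coord

variable (C : Coord G) [IsSimpleGroup G]

/-- An automorphism fixing the two base points is determined by two parameters. -/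
theorem exists_param {α : MulAut G} (h0 : α • C.P₀ = C.P₀) (h1 : α • C.P₁ = C.P₁) :
    ∃ Am : ℕ × ℕ, Am ∈ auts ∧ α C.K.a = C.K.φ Am.1 ∧ α C.h = C.h ^ Am.2 := by
  obtain ⟨A, hA, hAa⟩ := C.surj (α C.K.a) (aut_mem h0 (C.K.φ_one ▸ C.mem 1))
  have hfix : ∀ R : Sylow 3 G, α • R = R → C.h • R = R → (α C.h) • R = R := fun R hR hR' => by
    have := aut_smul_smul α C.h R
    rw [hR', hR] at this
    exact this.symm
  obtain ⟨m, hm, hαh⟩ := C.stab (α C.h) (hfix _ h0 C.fix₀) (hfix _ h1 C.fix₁)
  have hhn : ∀ (n : ℕ) i, i < 27 → C.h ^ n * C.K.φ i * (C.h ^ n)⁻¹ = C.K.φ (hp n i) := by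
    intro n
    induction n with
    | zero => intro i hi; simp [hp]
    | succ l ih =>
      intro i hi
      rw [show hp (l + 1) i = hf (hp l i) from rfl, ← C.conj _ (hp_lt l hi), ← ih i hi, pow_succ']
      group
  have hconj : ∀ i B, i < 27 → B < 27 → α (C.K.φ i) = C.K.φ B → α (C.K.φ (hf i)) = C.K.φ (hp m B) := by
    intro i B hi hB h
    rw [← C.conj i hi, map_mul, map_mul, map_inv, hαh, h, hhn m B hB]
  have hf1 : hf 1 = 3 := by decide +kernel
  have hf3 : hf 3 = mulC 1 3 := by decide +kernel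
  have hB : α (C.K.φ 3) = C.K.φ (hp m A) := hf1 ▸ hconj 1 A (by norm_num) hA (by rw [C.K.φ_one, hAa])
  have hB2 : α (C.K.φ (mulC 1 3)) = C.K.φ (hp m (hp m A)) :=
    hf3 ▸ hconj 3 _ (by norm_num) (hp_lt m hA) hB
  have heq : hp m (hp m A) = mulC A (hp m A) := by
    refine C.inj _ _ (hp_lt m (hp_lt m hA)) (mul_lt _ _) ?_
    rw [← hB2, C.K.φ_mul, C.K.φ_mul, map_mul, hB, C.K.φ_one, hAa]
  have hmodd : m ∈ ([1, 3, 5, 7] : List ℕ) := by
    have hord : orderOf (C.h ^ m) = 8 := by rw [← hαh, MulEquiv.orderOf_eq, C.ord]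
    rcases Nat.even_or_odd m with ⟨l, hl⟩ | ⟨l, hl⟩
    · exfalso
      have h4 : (C.h ^ m) ^ 4 = 1 := by
        rw [← pow_mul, hl, show (l + l) * 4 = 8 * l by ring, pow_mul, ← C.ord, pow_orderOf_eq_one,
          one_pow]
      have := orderOf_dvd_of_pow_eq_one h4
      rw [hord] at this
      omega
    · simp only [List.mem_cons, List.not_mem_nil, or_false]
      omega
  have hne : commC A (hp m A) ≠ 0 := by
    intro h
    have h' := C.K.φ_comm hA (hp_lt m hA)
    rw [h, C.K.φ_zero, hAa, ← hB, ← map_inv α, ← map_inv α, ← map_mul, ← map_mul, ← map_mul,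
      eq_comm, map_eq_one_iff _ α.injective] at h'
    have e9 : commC 1 3 = 9 := by decide +kernel
    rw [← C.K.φ_one, ← C.K.φ_comm (by norm_num) (by norm_num), e9, ← C.K.φ_zero] at h'
    exact absurd (C.inj _ _ (by norm_num) (by norm_num) h') (by norm_num)
  have := List.all_eq_true.1 (List.all_eq_true.1 auts_complete A (List.mem_range.2 hA)) m hmodd
  simp only [heq, beq_self_eq_true, Bool.and_true, Bool.not_not, Bool.or_eq_true, beq_iff_eq, hne,
    false_or, List.contains_iff_mem] at this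
  exact ⟨(A, m), this, hAa.symm, hαh⟩

include C in
theorem card_mulAut_le : Nat.card (MulAut G) ≤ 12096 := by
  classical
  set S₀ := MulAction.stabilizer (MulAut G) C.P₀ with hS₀
  have hi : S₀.index ≤ 28 := by
    rw [MulAction.index_stabilizer, ← C.facts.card_sylow, ← Set.ncard_univ]
    exact Set.ncard_le_ncard (Set.subset_univ _)
  set S₁ := MulAction.stabilizer S₀ C.P₁ with hS₁
  have hj : S₁.index ≤ 27 := by
    rw [MulAction.index_stabilizer]
    have hsub : MulAction.orbit S₀ C.P₁ ⊆ {R : Sylow 3 G | R ≠ C.P₀} := by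
      rintro R ⟨⟨α, hα⟩, rfl⟩ h
      have h' : α • C.P₁ = α • C.P₀ := h.trans (MulAction.mem_stabilizer_iff.1 hα).symm
      exact C.ne (smul_left_cancel α h')
    refine (Set.ncard_le_ncard hsub).trans ?_
    rw [show {R : Sylow 3 G | R ≠ C.P₀} = ({C.P₀} : Set (Sylow 3 G))ᶜ from rfl, Set.ncard_compl,
      Set.ncard_singleton, C.facts.card_sylow]
  have hk : Nat.card S₁ ≤ 16 := by
    choose P hP using fun α : S₁ => C.exists_param (α := ((α : S₀) : MulAut G))
      (MulAction.mem_stabilizer_iff.1 (α : S₀).2) (MulAction.mem_stabilizer_iff.1 α.2)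
    have hinj : Function.Injective P := by
      intro α β hab
      obtain ⟨-, ha, hh⟩ := hP α
      obtain ⟨-, hb, hh'⟩ := hP β
      rw [hab] at ha hh
      refine Subtype.ext (Subtype.ext ?_)
      set γ : MulAut G := ((β : S₀) : MulAut G)⁻¹ * ((α : S₀) : MulAut G) with hγ
      suffices hγ1 : γ = 1 from (inv_mul_eq_one.1 hγ1).symm
      have g0 : γ • C.P₀ = C.P₀ := by
        rw [hγ, mul_smul, MulAction.mem_stabilizer_iff.1 (α : S₀).2, inv_smul_eq_iff,
          MulAction.mem_stabilizer_iff.1 (β : S₀).2]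
      have g1 : γ • C.P₁ = C.P₁ := by
        have e1 : ((α : S₀) : MulAut G) • C.P₁ = C.P₁ := MulAction.mem_stabilizer_iff.1 α.2
        have e2 : ((β : S₀) : MulAut G) • C.P₁ = C.P₁ := MulAction.mem_stabilizer_iff.1 β.2
        rw [hγ, mul_smul, e1, inv_smul_eq_iff, e2]
      have ga : γ C.K.a = C.K.a := by
        rw [hγ, MulAut.mul_apply, ha, ← hb]
        exact MulEquiv.symm_apply_apply _ _
      have gh : γ C.h = C.h := by
        rw [hγ, MulAut.mul_apply, hh, ← hh']
        exact MulEquiv.symm_apply_apply _ _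
      have gb : γ C.K.b = C.K.b := by
        rw [← C.K.φ_three, ← show hf 1 = 3 by decide +kernel, ← C.conj 1 (by norm_num), map_mul, map_mul,
          map_inv, C.K.φ_one, ga, gh]
      have gφ : ∀ n, γ (C.K.φ n) = C.K.φ n := by
        intro n
        simp [Chart.φ, Chart.c, ga, gb]
      have gpt : ∀ R : Sylow 3 G, γ • R = R := by
        intro R
        rw [← C.pt_idx R]
        rcases Nat.lt_or_ge (C.idx R) 27 with h | h
        · rw [C.pt_of_lt h, aut_smul_smul, gφ, g1]
        · rw [show C.idx R = 27 by have := C.idx_lt R; omega, C.pt_top, g0]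
      refine MulEquiv.ext fun g => ?_
      have : (g⁻¹ * γ g) = 1 := C.faithful fun R => by
        rw [mul_smul, inv_smul_eq_iff]
        conv_lhs => rw [← gpt R]
        rw [← aut_smul_smul, gpt]
      exact (inv_mul_eq_one.1 this).symm
    have := Nat.card_le_card_of_injective (fun α : S₁ => (⟨P α, List.mem_toFinset.2 (hP α).1⟩ : {x // x ∈ auts.toFinset}))
      (fun α β h => hinj (congrArg Subtype.val h))
    refine this.trans ?_
    rw [Nat.card_eq_fintype_card, Fintype.card_coe]
    decide +kernel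
  rw [← S₀.index_mul_card, ← S₁.index_mul_card]
  calc S₀.index * (S₁.index * Nat.card S₁) ≤ 28 * (27 * 16) := Nat.mul_le_mul hi (Nat.mul_le_mul hj hk)
    _ = 12096 := by norm_num

end Coord

end CfsgLib.U33Recog
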