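import Mathlib

/-!
# A model of `3^{1+2} : 8` on `28` points and the possible exchanging involutions
-/

namespace CfsgLib.U33Recog

set_option autoImplicit false

/-- Multiplication of the group of order `27`; `x + 3y + 9z` codes `a^x b^y c^z`. -/
def mulC (i j : ℕ) : ℕ :=
  (i % 3 + j % 3) % 3 + 3 * ((i / 3 % 3 + j / 3 % 3) % 3) +
    9 * ((i / 9 + j / 9 + 2 * (i / 3 % 3) * (j % 3)) % 3)

/-- Inverses. -/
def invC (i : ℕ) : ℕ :=
  (3 - i % 3) % 3 + 3 * ((3 - i / 3 % 3) % 3) +
    9 * ((6 - i / 9 + 2 * (i % 3) * (i / 3 % 3)) % 3)

/-- Powers. -/
def powC (a : ℕ) : ℕ → ℕ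
  | 0 => 0
  | n + 1 => mulC (powC a n) a

/-- Commutators. -/
def commC (i j : ℕ) : ℕ := mulC (mulC (invC i) (invC j)) (mulC i j)

/-- The map sending the generators to `A` and `B`. -/
def homC (A B n : ℕ) : ℕ :=
  mulC (mulC (powC A (n % 3)) (powC B (n / 3 % 3))) (powC (commC A B) (n / 9))

/-- A table of numbers below `32`, stored in one number. -/
def look (N i : ℕ) : ℕ := N / 32 ^ i % 32

/-- The table of the automorphism of order eight. -/
def hfN : ℕ := 1207801158776458375196538903758075614861408

/-- The automorphism of order eight on the `28` points. -/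
def hf (i : ℕ) : ℕ := if i < 27 then look hfN i else 27

theorem hf_ok : (List.range 27).all (fun i => hf i == homC 3 (mulC 1 3) i) = true := by
  decide +kernel

/-- Its powers. -/
def hp : ℕ → ℕ → ℕ
  | 0, i => i
  | n + 1, i => hf (hp n i)

/-- Translations. -/
def tf (u i : ℕ) : ℕ := if i < 27 then mulC u i else 27

/-- An automorphism on the `28` points. -/
def af (A B i : ℕ) : ℕ := if i < 27 then homC A B i else 27

theorem mul_assocC : (List.range 27).all (fun i => (List.range 27).all fun j =>
    (List.range 27).all fun l => mulC (mulC i j) l == mulC i (mulC j l)) = true := by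
  decide +kernel

theorem inv_ok : (List.range 27).all (fun i => mulC (invC i) i == 0 && mulC i (invC i) == 0 &&
    decide (invC i < 27)) = true := by
  decide +kernel

theorem mul_lt (i j : ℕ) : mulC i j < 27 := by unfold mulC; omega

theorem powC_lt (a n : ℕ) : powC a n < 27 := by
  cases n with
  | zero => simp [powC]
  | succ n => exact mul_lt _ _

theorem homC_lt (A B n : ℕ) : homC A B n < 27 := mul_lt _ _

/-- The orbit numbers of the points. -/
def locO (i : ℕ) : ℕ := look 1361172387841184147356463161353399436288 i

/-- The positions of the points in their orbits. -/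
def locN (i : ℕ) : ℕ := look 2856643454139538399931646637041984241664 i

/-- The representatives of the orbits. -/
def reps : List ℕ := [1, 2, 5, 9]

theorem locs_ok : (List.range 27).all (fun i => i == 0 ||
    (decide (locO i < 4) && hp (locN i) (reps.getD (locO i) 0) == i)) = true := by
  decide +kernel

/-- The non-central points. -/
def ncs : List ℕ := (List.range 27).filter fun i => decide (i % 9 ≠ 0)

/-- The map determined by `k` and the images of the representatives; `28` means undetermined. -/
def wv (k : ℕ) (ys : List ℕ) (i : ℕ) : ℕ :=
  if i = 0 then 27 else if i = 27 then 0 else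
    if locO i < ys.length then hp (k * locN i % 8) (ys.getD (locO i) 0) else 28

/-- The map is an involution where it is determined. -/
def partOk (k : ℕ) (ys : List ℕ) : Bool :=
  reps.all fun i =>
    let j := wv k ys i
    j == 28 || wv k ys j == i || wv k ys j == 28

/-- Extending a prefix by one image. -/
def extend (k : ℕ) (l : List (List ℕ)) (ys : List ℕ) : List (List ℕ) :=
  (l.flatMap fun p => ys.map fun y => p ++ [y]).filter (partOk k)

/-- The candidates. -/
def cands (k : ℕ) : List (List ℕ) :=
  extend k (extend k (extend k (extend k [[]] ncs) ncs) ncs) [9, 18]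

/-- The condition at a translation. -/
def transOk (k : ℕ) (ys : List ℕ) (u : ℕ) : Bool :=
  let w := wv k ys
  let g := fun i => w (tf (invC (w u)) (w (tf u (w i))))
  (List.range 8).any fun j => (List.range 28).all fun i => g i == tf (g 0) (hp j i)

/-- The pairs giving automorphisms compatible with `hf`. -/
def auts : List (ℕ × ℕ) :=
  [(1, 1), (2, 3), (3, 1), (4, 1), (6, 3), (7, 3), (8, 1), (11, 1), (12, 3), (14, 1), (19, 3), (22, 3),
    (23, 3), (24, 1), (25, 1), (26, 3)]

theorem auts_complete : (List.range 27).all (fun A => [1, 3, 5, 7].all fun m =>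
    !(!(commC A (hp m A) == 0) && hp m (hp m A) == mulC A (hp m A)) || auts.contains (A, m)) = true := by
  decide +kernel

/-- The standard involution. -/
def w0 (i : ℕ) : ℕ := look 19994737520531569810780319455237829681403 i

/-- A candidate is conjugate to the standard involution times a power of `hf`. -/
def conjOk (k : ℕ) (ys : List ℕ) : Bool :=
  auts.any fun Am => (List.range 8).any fun j =>
    let τ := af Am.1 (hp Am.2 Am.1)
    ((List.range 28).all fun i => τ (wv k ys i) == w0 (hp j (τ i))) &&
      ((List.range 28).all fun i => τ (hf i) == hp Am.2 (τ i)) &&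
      ((List.range 28).all fun i => (List.range 28).any fun j => τ j == i) &&
      (List.range 27).all fun u => (List.range 28).all fun i => τ (tf u i) == tf (τ u) (τ i)

/-- Every candidate passing the test is standard up to conjugation. -/
theorem search_ok : [1, 3, 5, 7].all (fun k => (cands k).all fun ys =>
    !(reps.all (transOk k ys)) || conjOk k ys) = true := by
  decide +kernel

/-- A fixed-point-free automorphism of order dividing eight that inverts the centre. -/
def goodAut (A B : ℕ) : Bool :=
  let f := homC A B
  !(commC A B == 0) && f 9 == 18 && f (f (f (f (f (f (f (f 1))))))) == 1 &&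
    f (f (f (f (f (f (f (f 3))))))) == 3 &&
    (ncs.all fun n => !(f n == n)) &&
    ((f (f 1) == 1 && f (f 3) == 3) || ncs.all fun n => !(f (f n) == n)) &&
    ((f (f (f (f 1))) == 1 && f (f (f (f 3))) == 3) || ncs.all fun n => !(f (f (f (f n))) == n))

/-- Iterates of a map. -/
def itf (f : ℕ → ℕ) : ℕ → ℕ → ℕ
  | 0, i => i
  | n + 1, i => f (itf f n i)

/-- The canonical form of the automorphism of order eight. -/
theorem canon : (List.range 27).all (fun A => (List.range 27).all fun B =>
    !goodAut A B ||
      (let f := homC A B
      !(itf f 4 1 == 1 && itf f 4 3 == 3) &&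
        ncs.any fun a => [1, 3, 5, 7].any fun j =>
          !(commC a (itf f j a) == 0) && itf f j (itf f j a) == mulC a (itf f j a))) = true := by
  decide +kernel

end CfsgLib.U33Recog
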