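import Cfsg.Agent.Lib.U33Recog.Sylow
import Cfsg.Agent.Lib.U33Recog.Model

/-!
# Coordinates on the `28` Sylow `3`-subgroups
-/

namespace CfsgLib.U33Recog

open scoped Pointwise

set_option autoImplicit false
set_option linter.unusedVariables false
set_option linter.style.haveILetI false
set_option linter.unusedSectionVars false
set_option maxHeartbeats 800000

universe u

variable {G : Type u} [Group G] [Finite G]

theorem model_assoc {i j l : ℕ} (hi : i < 27) (hj : j < 27) (hl : l < 27) :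
    mulC (mulC i j) l = mulC i (mulC j l) := by
  have := List.all_eq_true.1 (List.all_eq_true.1 (List.all_eq_true.1 mul_assocC i (List.mem_range.2 hi))
    j (List.mem_range.2 hj)) l (List.mem_range.2 hl)
  simpa using this

theorem model_inv {i : ℕ} (hi : i < 27) : mulC (invC i) i = 0 ∧ mulC i (invC i) = 0 ∧ invC i < 27 := by
  have := List.all_eq_true.1 inv_ok i (List.mem_range.2 hi)
  simpa [and_assoc] using this

theorem central_bool : (List.range 27).all (fun v =>
    !(mulC 1 v == mulC v 1 && mulC 3 v == mulC v 3) || v % 9 == 0) = true := by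
  decide +kernel

theorem central_model {v : ℕ} (hv : v < 27) (h1 : mulC 1 v = mulC v 1) (h3 : mulC 3 v = mulC v 3) :
    v % 9 = 0 := by
  have := List.all_eq_true.1 central_bool v (List.mem_range.2 hv)
  simpa [h1, h3] using this

theorem hf_eq {i : ℕ} (hi : i < 27) : hf i = homC 3 (mulC 1 3) i := by
  have := List.all_eq_true.1 hf_ok i (List.mem_range.2 hi)
  simpa using this

theorem hf_lt {i : ℕ} (hi : i < 27) : hf i < 27 := hf_eq hi ▸ homC_lt _ _ _

theorem hp_lt (j : ℕ) {i : ℕ} (hi : i < 27) : hp j i < 27 := by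
  induction j with
  | zero => exact hi
  | succ n ih => exact hf_lt ih

theorem hp_top (j : ℕ) : hp j 27 = 27 := by
  induction j with
  | zero => rfl
  | succ n ih => show hf (hp n 27) = 27; rw [ih]; rfl

/-- Coordinates of a group of order `27` by the model. -/
structure Chart (G : Type u) [Group G] where
  a : G
  b : G
  ca : a ^ 3 = 1
  cb : b ^ 3 = 1
  cc : (a⁻¹ * b⁻¹ * a * b) ^ 3 = 1
  comm_a : Commute (a⁻¹ * b⁻¹ * a * b) a
  comm_b : Commute (a⁻¹ * b⁻¹ * a * b) b

namespace Chart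

variable (K : Chart G)

/-- The commutator. -/
def c : G := K.a⁻¹ * K.b⁻¹ * K.a * K.b

/-- The chart. -/
def φ (n : ℕ) : G := K.a ^ (n % 3) * K.b ^ (n / 3 % 3) * K.c ^ (n / 9)

theorem pow_three {x : G} (h : x ^ 3 = 1) (n : ℕ) : x ^ (n % 3) = x ^ n := by
  conv_rhs => rw [← Nat.mod_add_div n 3, pow_add, pow_mul, h, one_pow, mul_one]

theorem swap_one : K.b * K.a = K.a * K.b * K.c ^ 2 := by
  have h1 : K.c ^ 2 = K.c⁻¹ := eq_inv_of_mul_eq_one_left (by rw [← pow_succ]; exact K.cc)
  rw [h1, c]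
  group

theorem swap_pow (y : ℕ) : ∀ x : ℕ, K.b ^ y * K.a ^ x = K.a ^ x * K.b ^ y * K.c ^ (2 * y * x) := by
  have hb : ∀ y : ℕ, K.b ^ y * K.a = K.a * K.b ^ y * K.c ^ (2 * y) := by
    intro y
    induction y with
    | zero => simp
    | succ n ih =>
      rw [pow_succ, mul_assoc, K.swap_one, ← mul_assoc, ← mul_assoc, ih]
      have hc : K.c ^ (2 * n) * K.b = K.b * K.c ^ (2 * n) := (K.comm_b.pow_left _).eq
      rw [mul_assoc (K.a * K.b ^ n) (K.c ^ (2 * n)) K.b, hc, show 2 * (n + 1) = 2 * n + 2 by ring,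
        pow_add K.c]
      simp only [mul_assoc]
  intro x
  induction x with
  | zero => simp
  | succ n ih =>
    rw [pow_succ, ← mul_assoc, ih]
    have hc : K.c ^ (2 * y * n) * K.a = K.a * K.c ^ (2 * y * n) := (K.comm_a.pow_left _).eq
    rw [mul_assoc (K.a ^ n * K.b ^ y), hc, ← mul_assoc, mul_assoc (K.a ^ n) (K.b ^ y) K.a, hb y,
      show 2 * y * (n + 1) = 2 * y + 2 * y * n by ring, pow_add K.c]
    simp only [mul_assoc]

theorem φ_general (x y z x' y' z' : ℕ) : K.a ^ x * K.b ^ y * K.c ^ z * (K.a ^ x' * K.b ^ y' * K.c ^ z') =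
    K.a ^ (x + x') * K.b ^ (y + y') * K.c ^ (z + z' + 2 * y * x') := by
  have hca : Commute (K.c ^ z) (K.a ^ x') := K.comm_a.pow_pow _ _
  have hcb : ∀ k, Commute (K.c ^ k) (K.b ^ y') := fun k => K.comm_b.pow_pow _ _
  calc K.a ^ x * K.b ^ y * K.c ^ z * (K.a ^ x' * K.b ^ y' * K.c ^ z')
      = K.a ^ x * K.b ^ y * (K.c ^ z * K.a ^ x') * K.b ^ y' * K.c ^ z' := by simp only [mul_assoc]
    _ = K.a ^ x * (K.b ^ y * K.a ^ x') * (K.c ^ z * K.b ^ y') * K.c ^ z' := by
        rw [hca.eq]; simp only [mul_assoc]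
    _ = K.a ^ x * K.a ^ x' * K.b ^ y * (K.c ^ (2 * y * x') * K.b ^ y') * (K.c ^ z * K.c ^ z') := by
        rw [K.swap_pow, (hcb z).eq]; simp only [mul_assoc]
    _ = K.a ^ x * K.a ^ x' * K.b ^ y * K.b ^ y' * (K.c ^ (2 * y * x') * (K.c ^ z * K.c ^ z')) := by
        rw [(hcb _).eq]; simp only [mul_assoc]
    _ = _ := by
        rw [← pow_add, ← pow_add, ← pow_add, mul_assoc (K.a ^ _) (K.b ^ y) (K.b ^ y'), ← pow_add]
        congr 2
        ring

theorem φ_mul (i j : ℕ) : K.φ (mulC i j) = K.φ i * K.φ j := by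
  rw [φ, φ, φ, φ_general]
  have h1 : mulC i j % 3 = (i % 3 + j % 3) % 3 := by unfold mulC; omega
  have h2 : mulC i j / 3 % 3 = (i / 3 % 3 + j / 3 % 3) % 3 := by unfold mulC; omega
  have h3 : mulC i j / 9 = (i / 9 + j / 9 + 2 * (i / 3 % 3) * (j % 3)) % 3 := by unfold mulC; omega
  rw [h1, h2, h3, pow_three K.ca, pow_three K.cb, pow_three (x := K.c) K.cc]

theorem φ_zero : K.φ 0 = 1 := by simp [φ]

theorem φ_one : K.φ 1 = K.a := by simp [φ]

theorem φ_three : K.φ 3 = K.b := by simp [φ]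

theorem φ_nine : K.φ 9 = K.c := by simp [φ]

theorem φ_pow (A : ℕ) : ∀ n, K.φ (powC A n) = K.φ A ^ n
  | 0 => by rw [pow_zero]; exact K.φ_zero
  | n + 1 => by rw [powC, φ_mul, φ_pow A n, pow_succ]

theorem φ_inv {i : ℕ} (hi : i < 27) : K.φ (invC i) = (K.φ i)⁻¹ :=
  eq_inv_of_mul_eq_one_left (by rw [← φ_mul, (model_inv hi).1, φ_zero])

theorem φ_comm {i j : ℕ} (hi : i < 27) (hj : j < 27) :
    K.φ (commC i j) = (K.φ i)⁻¹ * (K.φ j)⁻¹ * K.φ i * K.φ j := by
  rw [commC, φ_mul, φ_mul, φ_mul, φ_inv _ hi, φ_inv _ hj]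
  simp only [mul_assoc]

/-- The effect of a homomorphism is read off the generators. -/
theorem φ_hom (α : G →* G) {A B : ℕ} (hA : A < 27) (hB : B < 27) (ha : α K.a = K.φ A)
    (hb : α K.b = K.φ B) (n : ℕ) : α (K.φ n) = K.φ (homC A B n) := by
  have hc : α K.c = K.φ (commC A B) := by
    rw [φ_comm _ hA hB, ← ha, ← hb, c]
    simp
  rw [homC, φ_mul, φ_mul, φ_pow, φ_pow, φ_pow, φ, map_mul, map_mul, map_pow, map_pow, map_pow, ha, hb, hc]

end Chart

/-- The coordinates. -/
structure Coord (G : Type u) [Group G] [Finite G] where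
  P₀ : Sylow 3 G
  P₁ : Sylow 3 G
  K : Chart G
  h : G
  ne : P₁ ≠ P₀
  facts : SylowFacts G
  mem : ∀ n, K.φ n ∈ (P₀ : Subgroup G)
  surj : ∀ q ∈ (P₀ : Subgroup G), ∃ n, n < 27 ∧ K.φ n = q
  inj : ∀ i j : ℕ, i < 27 → j < 27 → K.φ i = K.φ j → i = j
  conj : ∀ n, n < 27 → h * K.φ n * h⁻¹ = K.φ (hf n)
  fix₀ : h • P₀ = P₀
  fix₁ : h • P₁ = P₁
  ord : orderOf h = 8
  stab : ∀ g : G, g • P₀ = P₀ → g • P₁ = P₁ → ∃ j : ℕ, j < 8 ∧ g = h ^ j

/-- An element of a Sylow subgroup fixing another one is trivial. -/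
theorem SylowFacts.free (F : SylowFacts G) {Q R : Sylow 3 G} (hne : Q ≠ R) {q : G}
    (hq : q ∈ (Q : Subgroup G)) (hR : q • R = R) : q = 1 := by
  haveI : Fact (Nat.Prime 3) := ⟨Nat.prime_three⟩
  have hp : IsPGroup 3 (Subgroup.zpowers q) := Q.2.to_le (Subgroup.zpowers_le.2 hq)
  have := (hp.inf_normalizer_sylow R).le
    ⟨Subgroup.mem_zpowers q, Sylow.smul_eq_iff_mem_normalizer.1 hR⟩
  have h : q ∈ (Q : Subgroup G) ⊓ (R : Subgroup G) := ⟨hq, this.2⟩
  rwa [F.ti Q R hne, Subgroup.mem_bot] at h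

/-- A Sylow subgroup fixes itself. -/
theorem smul_self_sylow {Q : Sylow 3 G} {q : G} (hq : q ∈ (Q : Subgroup G)) : q • Q = Q :=
  Sylow.smul_eq_iff_mem_normalizer.2 (Subgroup.le_normalizer hq)

theorem itf_lt (A B : ℕ) (j : ℕ) {i : ℕ} (hi : i < 27) : itf (homC A B) j i < 27 := by
  cases j with
  | zero => exact hi
  | succ n => exact homC_lt _ _ _

/-- Coordinates exist. -/
theorem exists_coord [IsSimpleGroup G] (hN : Nat.card G = 6048) (h9 : ∀ x : G, orderOf x ≠ 9) :
    Nonempty (Coord G) := by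
  classical
  haveI : Fintype G := Fintype.ofFinite G
  haveI : Fact (Nat.Prime 3) := ⟨Nat.prime_three⟩
  have F := sylowFacts hN h9
  obtain ⟨P⟩ : Nonempty (Sylow 3 G) := inferInstance
  have hP := card_sylow_three hN P
  obtain ⟨R, hR⟩ : ∃ R : Sylow 3 G, R ≠ P := by
    by_contra h
    push Not at h
    haveI : Subsingleton (Sylow 3 G) := ⟨fun x y => (h x).trans (h y).symm⟩
    have := F.card_sylow
    rw [Nat.card_of_subsingleton P] at this
    omega
  -- a first chart
  obtain ⟨a, haP, hac⟩ : ∃ a ∈ (P : Subgroup G), a ∉ ctr P := by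
    by_contra h
    push Not at h
    have := Subgroup.card_le_of_le (show (P : Subgroup G) ≤ ctr P from h)
    rw [F.card_ctr, show Nat.card (P : Subgroup G) = 27 from hP] at this
    omega
  obtain ⟨b, hbP, hba⟩ : ∃ b ∈ (P : Subgroup G), b * a ≠ a * b := by
    by_contra h
    push Not at h
    exact hac (mem_ctr.2 ⟨haP, h⟩)
  have hcomm : ∀ x ∈ (P : Subgroup G), ∀ y ∈ (P : Subgroup G), x⁻¹ * y⁻¹ * x * y ∈ ctr P := by
    intro x hx y hy
    have hq : Nat.card ((P : Subgroup G) ⧸ Subgroup.center (P : Subgroup G)) = 3 ^ 2 := by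
      have := Subgroup.card_eq_card_quotient_mul_card_subgroup (Subgroup.center (P : Subgroup G))
      have hz : Nat.card (Subgroup.center (P : Subgroup G)) = 3 := by
        have h := F.card_ctr P
        rwa [ctr, Subgroup.card_map_of_injective Subtype.coe_injective] at h
      rw [hz, show Nat.card (P : Subgroup G) = 27 from hP] at this
      omega
    have hcq := IsPGroup.commutative_of_card_eq_prime_sq hq
      (QuotientGroup.mk (⟨x, hx⟩ : (P : Subgroup G))) (QuotientGroup.mk (⟨y, hy⟩ : (P : Subgroup G)))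
    rw [← QuotientGroup.mk_mul, ← QuotientGroup.mk_mul, eq_comm, QuotientGroup.eq] at hcq
    exact ⟨_, hcq, by simp [mul_assoc]⟩
  have hpow3 : ∀ x ∈ (P : Subgroup G), x ^ 3 = 1 := fun x hx => by
    by_cases h1 : x = 1
    · rw [h1, one_pow]
    · rw [← order_three hP h9 hx h1, pow_orderOf_eq_one]
  have mkChart : ∀ x ∈ (P : Subgroup G), ∀ y ∈ (P : Subgroup G), y * x ≠ x * y →
      ∃ K : Chart G, K.a = x ∧ K.b = y ∧ (∀ n, K.φ n ∈ (P : Subgroup G)) ∧
        (∀ q ∈ (P : Subgroup G), ∃ n, n < 27 ∧ K.φ n = q) ∧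
        (∀ i j : ℕ, i < 27 → j < 27 → K.φ i = K.φ j → i = j) := by
    intro x hx y hy hxy
    have hc := mem_ctr.1 (hcomm x hx y hy)
    let K : Chart G := ⟨x, y, hpow3 x hx, hpow3 y hy, hpow3 _ hc.1,
      (hc.2 x hx).symm, (hc.2 y hy).symm⟩
    have hmem : ∀ n, K.φ n ∈ (P : Subgroup G) := fun n =>
      mul_mem (mul_mem (pow_mem hx _) (pow_mem hy _)) (pow_mem hc.1 _)
    let L : Subgroup G :=
      { carrier := {q | ∃ n, n < 27 ∧ K.φ n = q}
        one_mem' := ⟨0, by norm_num, K.φ_zero⟩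
        mul_mem' := by
          rintro _ _ ⟨i, hi, rfl⟩ ⟨j, hj, rfl⟩
          exact ⟨mulC i j, mul_lt i j, K.φ_mul i j⟩
        inv_mem' := by
          rintro _ ⟨i, hi, rfl⟩
          exact ⟨invC i, (model_inv hi).2.2, K.φ_inv hi⟩ }
    have hLP : L ≤ (P : Subgroup G) := by rintro _ ⟨i, hi, rfl⟩; exact hmem i
    have hxL : x ∈ L := ⟨1, by norm_num, K.φ_one⟩
    have hyL : y ∈ L := ⟨3, by norm_num, K.φ_three⟩
    have hL : L = (P : Subgroup G) := by
      refine Subgroup.eq_of_le_of_card_ge hLP ?_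
      rw [show Nat.card (P : Subgroup G) = 27 from hP]
      obtain ⟨k, hk⟩ := (P.2.to_le hLP).exists_card_eq
      have hk' : k ≤ 3 := (Nat.pow_dvd_pow_iff_le_right (by norm_num : 1 < 3)).1 (by
        show 3 ^ k ∣ 3 ^ 3
        rw [← hk, show (3 : ℕ) ^ 3 = Nat.card P from hP.symm]
        exact Subgroup.card_dvd_of_le hLP)
      have habel : k ≤ 2 → y * x = x * y := fun hk2 => by
        have hc2 : ∀ u v : L, u * v = v * u := by
          interval_cases k
          · haveI : Subsingleton L := (Nat.card_eq_one_iff_unique.1 (by simpa using hk)).1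
            exact fun u v => Subsingleton.elim _ _
          · haveI : IsCyclic L := isCyclic_of_prime_card (p := 3) (by simpa using hk)
            exact fun u v => mul_comm' u v
          · exact IsPGroup.commutative_of_card_eq_prime_sq hk
        exact congrArg Subtype.val (hc2 ⟨y, hyL⟩ ⟨x, hxL⟩)
      have h3 : k = 3 := by
        by_contra h
        exact hxy (habel (by omega))
      rw [hk, h3]; norm_num
    have hsurj : ∀ q ∈ (P : Subgroup G), ∃ n, n < 27 ∧ K.φ n = q := fun q hq => by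
      rw [← hL] at hq; exact hq
    refine ⟨K, rfl, rfl, hmem, hsurj, fun i j hi hj hij => ?_⟩
    have hs : Function.Surjective (fun n : Fin 27 => (⟨K.φ n, hmem n⟩ : (P : Subgroup G))) := fun q => by
      obtain ⟨n, hn, hq⟩ := hsurj q q.2
      exact ⟨⟨n, hn⟩, Subtype.ext hq⟩
    have hb : Function.Bijective (fun n : Fin 27 => (⟨K.φ n, hmem n⟩ : (P : Subgroup G))) :=
      hs.bijective_of_nat_card_le (by
        rw [show Nat.card (P : Subgroup G) = 27 from hP, Nat.card_eq_fintype_card, Fintype.card_fin])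
    exact congrArg Fin.val (@hb.1 ⟨i, hi⟩ ⟨j, hj⟩ (Subtype.ext hij))
  obtain ⟨K, hKa, hKb, hKmem, hKsurj, hKinj⟩ := mkChart a haP b hbP hba
  -- the stabiliser of two points
  set H := MulAction.stabilizer G P ⊓ MulAction.stabilizer G R with hH
  have hpt : Function.Bijective (fun q : (P : Subgroup G) =>
      (⟨(q : G) • R, fun h => hR (by
        rw [← inv_smul_smul (q : G) R, h]; exact smul_self_sylow (inv_mem q.2))⟩ : {S : Sylow 3 G // S ≠ P})) := by
    refine (Nat.bijective_iff_injective_and_card _).2 ⟨fun x y hxy => ?_, ?_⟩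
    · have h := congrArg Subtype.val hxy
      simp only at h
      have h1 : ((y : G)⁻¹ * x) = 1 := F.free hR.symm (mul_mem (inv_mem y.2) x.2) (by
        rw [mul_smul, h, inv_smul_smul])
      exact Subtype.ext (inv_mul_eq_one.1 h1).symm
    · haveI : Fintype (Sylow 3 G) := Fintype.ofFinite _
      rw [show Nat.card (P : Subgroup G) = 27 from hP, Nat.card_eq_fintype_card, Fintype.card_subtype_compl,
        Fintype.card_subtype_eq, ← Nat.card_eq_fintype_card, F.card_sylow]
  have hH8 : Nat.card H = 8 := by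
    have hstab : Nat.card (MulAction.stabilizer G P) = 216 := by
      rw [Sylow.stabilizer_eq_normalizer]
      have := SmallOrder.card_normalizer_mul_card_sylow P
      rw [F.card_sylow, hN] at this
      omega
    have e : Function.Bijective (fun x : ↥(P : Subgroup G) × H =>
        (⟨(x.1 : G) * (x.2 : G), by
          rw [MulAction.mem_stabilizer_iff, mul_smul, MulAction.mem_stabilizer_iff.1 x.2.2.1]
          exact smul_self_sylow x.1.2⟩ : MulAction.stabilizer G P)) := by
      refine ⟨fun x y hxy => ?_, fun g => ?_⟩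
      · have h := congrArg Subtype.val hxy
        simp only at h
        have h2 : (x.1 : G) • R = (y.1 : G) • R := by
          have := congrArg (fun u : G => u • R) h
          simp only [mul_smul, MulAction.mem_stabilizer_iff.1 x.2.2.2,
            MulAction.mem_stabilizer_iff.1 y.2.2.2] at this
          exact this
        have h1 : x.1 = y.1 := hpt.1 (Subtype.ext h2)
        rw [h1] at h
        exact Prod.ext h1 (Subtype.ext (mul_left_cancel h))
      · have hne : (g : G) • R ≠ P := fun h => hR (smul_left_cancel (g : G)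
          (h.trans (MulAction.mem_stabilizer_iff.1 g.2).symm))
        obtain ⟨q, hq⟩ := hpt.2 ⟨(g : G) • R, hne⟩
        have hq' : (q : G) • R = (g : G) • R := congrArg Subtype.val hq
        refine ⟨(q, ⟨(q : G)⁻¹ * g, ?_, ?_⟩), Subtype.ext (mul_inv_cancel_left _ _)⟩
        · refine MulAction.mem_stabilizer_iff.2 ?_
          rw [mul_smul, MulAction.mem_stabilizer_iff.1 g.2]
          exact smul_self_sylow (inv_mem q.2)
        · refine MulAction.mem_stabilizer_iff.2 ?_
          rw [mul_smul, ← hq', inv_smul_smul]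
    have := Nat.card_eq_of_bijective _ e
    rw [Nat.card_prod, show Nat.card (P : Subgroup G) = 27 from hP, hstab] at this
    omega
  -- the conjugation
  have hnorm : ∀ x ∈ H, ∀ q ∈ (P : Subgroup G), x * q * x⁻¹ ∈ (P : Subgroup G) := fun x hx q hq =>
    (Subgroup.mem_normalizer_iff.1 (Sylow.smul_eq_iff_mem_normalizer.1
      (MulAction.mem_stabilizer_iff.1 hx.1)) q).1 hq
  have hcne : K.c ≠ 1 := fun h => hba (by rw [← hKa, ← hKb, K.swap_one, h, one_pow, mul_one])
  have hcz : K.c ∈ ctr P := by rw [Chart.c, hKa, hKb]; exact hcomm a haP b hbP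
  obtain ⟨x, hxH, hxc⟩ : ∃ x ∈ H, x * K.c * x⁻¹ ≠ K.c := by
    by_contra hall
    push Not at hall
    have h108 := F.cent_ctr P K.c hcz hcne
    have hle : MulAction.stabilizer G P ≤ Subgroup.centralizer ({K.c} : Set G) := by
      intro g hg
      have hne : g • R ≠ P := fun h => hR (smul_left_cancel g
          (h.trans (MulAction.mem_stabilizer_iff.1 hg).symm))
      obtain ⟨q, hq⟩ := hpt.2 ⟨g • R, hne⟩
      have hq' : (q : G) • R = g • R := congrArg Subtype.val hq
      have hmem : (q : G)⁻¹ * g ∈ H := ⟨MulAction.mem_stabilizer_iff.2 (by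
          rw [mul_smul, MulAction.mem_stabilizer_iff.1 hg]
          exact smul_self_sylow (inv_mem q.2)),
        MulAction.mem_stabilizer_iff.2 (by rw [mul_smul, ← hq', inv_smul_smul])⟩
      have h1 : (q : G)⁻¹ * g ∈ Subgroup.centralizer ({K.c} : Set G) :=
        Subgroup.mem_centralizer_singleton_iff.2 (mul_inv_eq_iff_eq_mul.1 (hall _ hmem))
      have h2 : (q : G) ∈ Subgroup.centralizer ({K.c} : Set G) :=
        Subgroup.mem_centralizer_singleton_iff.2 ((mem_ctr.1 hcz).2 q q.2)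
      simpa using mul_mem h2 h1
    have := Subgroup.card_le_of_le hle
    rw [h108, Sylow.stabilizer_eq_normalizer] at this
    have h2 := SmallOrder.card_normalizer_mul_card_sylow P
    rw [F.card_sylow, hN] at h2
    omega
  obtain ⟨A, hA, hxA⟩ := hKsurj _ (hnorm x hxH a haP)
  obtain ⟨B, hB, hxB⟩ := hKsurj _ (hnorm x hxH b hbP)
  have hf1 : ∀ n, x * K.φ n * x⁻¹ = K.φ (homC A B n) := fun n =>
    K.φ_hom (MulAut.conj x).toMonoidHom hA hB (by rw [hKa]; exact hxA.symm) (by rw [hKb]; exact hxB.symm) n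
  have hfk : ∀ (j n : ℕ), x ^ j * K.φ n * (x ^ j)⁻¹ = K.φ (itf (homC A B) j n) := by
    intro j
    induction j with
    | zero => intro n; simp [itf]
    | succ k ih =>
      intro n
      rw [itf, ← hf1, ← ih, pow_succ']
      group
  have hx8 : x ^ 8 = 1 := by
    have := pow_card_eq_one' (x := (⟨x, hxH⟩ : H))
    rw [hH8] at this
    exact congrArg Subtype.val this
  -- powers fixing a non-central element are trivial
  have hfpf : ∀ (j n : ℕ), n < 27 → n % 9 ≠ 0 → itf (homC A B) j n = n → x ^ j = 1 := by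
    intro j n hn hn9 hfix
    have hnz : K.φ n ∉ ctr P := by
      intro hcn
      have hcen := (mem_ctr.1 hcn).2
      have e1 := hcen _ haP
      have e3 := hcen _ hbP
      rw [← hKa, ← K.φ_one, ← K.φ_mul, ← K.φ_mul] at e1
      rw [← hKb, ← K.φ_three, ← K.φ_mul, ← K.φ_mul] at e3
      have h1 := hKinj _ _ (mul_lt _ _) (mul_lt _ _) e1
      have h3 := hKinj _ _ (mul_lt _ _) (mul_lt _ _) e3
      exact hn9 (central_model hn h1 h3)
    have h9' := F.cent_out P _ (hKmem n) hnz
    have hmem : x ^ j ∈ Subgroup.centralizer ({K.φ n} : Set G) :=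
      Subgroup.mem_centralizer_singleton_iff.2 (mul_inv_eq_iff_eq_mul.1 (by rw [hfk, hfix]))
    have hd1 := Subgroup.orderOf_dvd_natCard _ hmem
    rw [h9'] at hd1
    have hd2 : orderOf (x ^ j) ∣ 8 := orderOf_dvd_of_pow_eq_one (by
      rw [← pow_mul, mul_comm, pow_mul, hx8, one_pow])
    exact orderOf_eq_one_iff.1 (Nat.eq_one_of_dvd_coprimes (by norm_num : Nat.Coprime 9 8) hd1 hd2)
  have hid : ∀ j, x ^ j = 1 → ∀ n, n < 27 → itf (homC A B) j n = n := fun j hj n hn =>
    hKinj _ _ (itf_lt A B j hn) hn (by rw [← hfk, hj]; simp)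
  have hx1 : x ≠ 1 := fun h => hxc (by simp [h])
  have hAB0 : commC A B ≠ 0 := fun h => by
    have h' := hf1 9
    rw [K.φ_nine, homC, h] at h'
    have e : mulC (mulC (powC A (9 % 3)) (powC B (9 / 3 % 3))) (powC 0 (9 / 9)) = 0 := by
      simp [powC, mulC]
    rw [e, K.φ_zero, conj_eq_one_iff] at h'
    exact hcne h'
  have hgood : goodAut A B = true := by
    have hc2 : homC A B 9 = 18 := by
      have hz := hnorm x hxH _ (mem_ctr.1 hcz).1
      have hzc : x * K.c * x⁻¹ ∈ ctr P := by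
        refine mem_ctr.2 ⟨hz, fun r hr => ?_⟩
        have hr' := hnorm _ (inv_mem hxH) r hr
        rw [inv_inv] at hr'
        have h := (mem_ctr.1 hcz).2 _ hr'
        calc r * (x * K.c * x⁻¹) = x * (x⁻¹ * r * x * K.c) * x⁻¹ := by group
          _ = x * (K.c * (x⁻¹ * r * x)) * x⁻¹ := by rw [h]
          _ = x * K.c * x⁻¹ * r := by group
      rw [← K.φ_nine, hf1] at hzc hxc
      set v := homC A B 9 with hv
      have hcen := (mem_ctr.1 hzc).2
      have e1 := hcen _ haP
      have e3 := hcen _ hbP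
      rw [← hKa, ← K.φ_one, ← K.φ_mul, ← K.φ_mul] at e1
      rw [← hKb, ← K.φ_three, ← K.φ_mul, ← K.φ_mul] at e3
      have h1 := hKinj _ _ (mul_lt _ _) (mul_lt _ _) e1
      have h3 := hKinj _ _ (mul_lt _ _) (mul_lt _ _) e3
      have hv27 : v < 27 := homC_lt _ _ _
      have hne9 : v ≠ 9 := fun e => hxc (by rw [e])
      have hne0 : v ≠ 0 := fun e => by
        have := hf1 9
        rw [← hv, e, K.φ_zero, conj_eq_one_iff, K.φ_nine] at this
        exact hcne this
      have := central_model hv27 h1 h3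
      omega
    have hnc : ∀ n ∈ ncs, n < 27 ∧ n % 9 ≠ 0 := fun n hn => by simpa [ncs] using hn
    have hi2 : ∀ n, itf (homC A B) 2 n = homC A B (homC A B n) := fun n => rfl
    have hi4 : ∀ n, itf (homC A B) 4 n = homC A B (homC A B (homC A B (homC A B n))) := fun n => rfl
    have hi8 : ∀ n, itf (homC A B) 8 n = homC A B (homC A B (homC A B (homC A B
        (homC A B (homC A B (homC A B (homC A B n))))))) := fun n => rfl
    simp only [goodAut, Bool.and_eq_true, Bool.or_eq_true, beq_iff_eq, Bool.not_eq_true',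
      beq_eq_false_iff_ne, List.all_eq_true, ← hi2, ← hi4, ← hi8]
    refine ⟨⟨⟨⟨⟨⟨hAB0, hc2⟩, hid 8 hx8 1 (by norm_num)⟩, hid 8 hx8 3 (by norm_num)⟩,
      fun n hn h => hx1 (by simpa using hfpf 1 n (hnc n hn).1 (hnc n hn).2 h)⟩, ?_⟩, ?_⟩
    · by_cases h : x ^ 2 = 1
      · exact Or.inl ⟨hid 2 h 1 (by norm_num), hid 2 h 3 (by norm_num)⟩
      · exact Or.inr fun n hn e => h (hfpf 2 n (hnc n hn).1 (hnc n hn).2 e)
    · by_cases h : x ^ 4 = 1
      · exact Or.inl ⟨hid 4 h 1 (by norm_num), hid 4 h 3 (by norm_num)⟩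
      · exact Or.inr fun n hn e => h (hfpf 4 n (hnc n hn).1 (hnc n hn).2 e)
  have hcan := List.all_eq_true.1 (List.all_eq_true.1 canon A (List.mem_range.2 hA)) B (List.mem_range.2 hB)
  simp only [hgood, Bool.not_true, Bool.false_or, Bool.and_eq_true, List.any_eq_true,
    Bool.not_eq_true', Bool.and_eq_false_iff, beq_eq_false_iff_ne, beq_iff_eq] at hcan
  obtain ⟨h4, a', ha', j, hj, hab0, hab⟩ := hcan
  have hx4 : x ^ 4 ≠ 1 := fun h => h4.elim (fun e => e (hid 4 h 1 (by norm_num)))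
    (fun e => e (hid 4 h 3 (by norm_num)))
  have hordx : orderOf x = 8 :=
    orderOf_eq_prime_pow (p := 2) (n := 2) (by simpa using hx4) (by simpa using hx8)
  have hjodd : Nat.Coprime 8 j := by
    simp only [List.mem_cons, List.not_mem_nil, or_false] at hj
    rcases hj with rfl | rfl | rfl | rfl <;> norm_num
  have hord : orderOf (x ^ j) = 8 := by rw [Nat.Coprime.orderOf_pow (hordx ▸ hjodd), hordx]
  have ha27 : a' < 27 := by simp [ncs] at ha'; exact ha'.1
  set b' := itf (homC A B) j a' with hb'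
  have hb27 : b' < 27 := itf_lt A B j ha27
  have hne' : K.φ b' * K.φ a' ≠ K.φ a' * K.φ b' := fun h => by
    refine hab0 (hKinj _ 0 (mul_lt _ _) (by norm_num) ?_)
    rw [K.φ_comm ha27 hb27, K.φ_zero]
    calc (K.φ a')⁻¹ * (K.φ b')⁻¹ * K.φ a' * K.φ b'
        = (K.φ b' * K.φ a')⁻¹ * (K.φ a' * K.φ b') := by group
      _ = 1 := by rw [h, inv_mul_cancel]
  obtain ⟨K', hKa', hKb', hKmem', hKsurj', hKinj'⟩ :=
    mkChart _ (hKmem a') _ (hKmem b') hne'
  have hxj : x ^ j ∈ H := pow_mem hxH j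
  refine ⟨{
    P₀ := P, P₁ := R, K := K', h := x ^ j
    ne := hR, facts := F, mem := hKmem', surj := hKsurj', inj := hKinj'
    conj := fun n hn => ?_
    fix₀ := MulAction.mem_stabilizer_iff.1 hxj.1
    fix₁ := MulAction.mem_stabilizer_iff.1 hxj.2
    ord := hord
    stab := fun g h0 h1 => ?_ }⟩
  · rw [hf_eq hn]
    refine K'.φ_hom (MulAut.conj (x ^ j)).toMonoidHom (by norm_num) (mul_lt _ _) ?_ ?_ n
    · show x ^ j * K'.a * (x ^ j)⁻¹ = _
      rw [K'.φ_three, hKa', hKb', hfk]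
    · show x ^ j * K'.b * (x ^ j)⁻¹ = _
      rw [K'.φ_mul, K'.φ_one, K'.φ_three, hKa', hKb', hfk, hab, K.φ_mul]
  · have hz : Subgroup.zpowers (x ^ j) = H := Subgroup.eq_of_le_of_card_ge (Subgroup.zpowers_le.2 hxj)
      (by rw [hH8, Nat.card_zpowers, hord])
    have hg : g ∈ Subgroup.zpowers (x ^ j) := by
      rw [hz]; exact ⟨MulAction.mem_stabilizer_iff.2 h0, MulAction.mem_stabilizer_iff.2 h1⟩
    obtain ⟨k, hk⟩ := (mem_powers_iff_mem_zpowers.2 hg)
    refine ⟨k % 8, Nat.mod_lt _ (by norm_num), ?_⟩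
    rw [← hord, pow_mod_orderOf]
    exact hk.symm

end CfsgLib.U33Recog
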