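import Cfsg.Agent.Lib.U33Recog.Search12096
import Cfsg.Agent.Lib.SmallOrders.Order5616Chars
import Cfsg.Agent.Lib.U33Degrees.Degrees

/-!
# No simple group of order `12096` without elements of orders `14` and `21`
-/

namespace CfsgLib.U33Recog

open Cfsg CfsgLib.CharTheory CfsgLib.Blocks CfsgLib.SmallOrders
open scoped ComplexConjugate

set_option autoImplicit false
set_option linter.unusedVariables false
set_option linter.style.haveILetI false
set_option linter.unusedSectionVars false
set_option maxHeartbeats 1000000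

universe u

variable {G : Type u} [Group G] [Fintype G]

theorem perm_intSum {l l' : List (ℤ × ℤ)} (h : l.Perm l') : intSum l = intSum l' ∧ normSum l = normSum l' := by
  unfold intSum normSum
  rw [(h.map _).sum_eq, (h.map Prod.snd).sum_eq, (h.map Prod.fst).sum_eq]
  refine ⟨rfl, ?_⟩
  rw [(h.map _).sum_eq]

theorem mul_div_cast {a : ℤ} (h : (1728 : ℤ) % a = 0) : ((1728 / a : ℤ) : ℂ) = 1728 / (a : ℂ) := by
  have hne : (a : ℂ) ≠ 0 := by
    intro e
    have : a = 0 := by exact_mod_cast e
    rw [this] at h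
    norm_num at h
  rw [Int.cast_div (Int.dvd_of_emod_eq_zero h) hne]
  norm_num

/-- No simple group of order `12096` without elements of orders `14` and `21`. -/
theorem false_12096 [IsSimpleGroup G] (hN0 : Nat.card G = 12096) (h14 : ∀ x : G, orderOf x ≠ 14)
    (h21 : ∀ x : G, orderOf x ≠ 21) : False := by
  classical
  haveI hp : Fact (Nat.Prime 7) := ⟨by norm_num⟩
  have hN : Nat.card G = 7 * 1728 := hN0.trans (by norm_num)
  have hna := not_comm hN (by norm_num)
  obtain ⟨M, P, n, e, S, hM, hP, hn, hn7, hn1, hed, he2, hC, hne, -, hNe⟩ :=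
    exists_data (p := 7) (m := 1728) (by norm_num) hN (by norm_num) (by norm_num)
  -- the centraliser of `P`
  obtain ⟨x, hx, hx1⟩ : ∃ x ∈ (P : Subgroup G), x ≠ 1 :=
    ((Subgroup.bot_or_exists_ne_one (P : Subgroup G)).resolve_left fun hb => by
      have : Nat.card (P : Subgroup G) = 7 := hP
      rw [hb, Subgroup.card_bot] at this
      omega)
  have hox : orderOf x = 7 := orderOf_eq hP hx hx1
  have hC7 : Nat.card (Subgroup.centralizer ((P : Subgroup G) : Set G)) = 7 := by
    set C := Subgroup.centralizer ((P : Subgroup G) : Set G) with hCdef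
    by_contra hne7
    have hd : Nat.card C ∣ 7 * 1728 := hN ▸ Subgroup.card_subgroup_dvd_card C
    have hPC : 7 ∣ Nat.card C := by
      haveI : IsCyclic (P : Subgroup G) := isCyclic_of_prime_card hP
      have := Subgroup.card_dvd_of_le (P : Subgroup G).le_centralizer
      rwa [show Nat.card (P : Subgroup G) = 7 from hP] at this
    obtain ⟨c, hc⟩ := hPC
    have hc1 : c ≠ 1 := fun h => hne7 (by rw [hc, h, mul_one])
    obtain ⟨r, hr, hrc⟩ := Nat.exists_prime_and_dvd hc1
    haveI : Fact r.Prime := ⟨hr⟩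
    obtain ⟨y, hy⟩ := exists_prime_orderOf_dvd_card' (G := C) r (hc ▸ hrc.mul_left 7)
    have hr' : r = 2 ∨ r = 3 := by
      have h1 : c ∣ 1728 := Nat.dvd_of_mul_dvd_mul_left (by norm_num) (hc ▸ hd)
      have h2 : r ∣ 2 ^ 6 * 3 ^ 3 := (hrc.trans h1).trans (by norm_num)
      rcases hr.dvd_mul.1 h2 with h | h
      · exact Or.inl ((Nat.prime_dvd_prime_iff_eq hr Nat.prime_two).1 (hr.dvd_of_dvd_pow h))
      · exact Or.inr ((Nat.prime_dvd_prime_iff_eq hr Nat.prime_three).1 (hr.dvd_of_dvd_pow h))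
    have hoy : orderOf (y : G) = r := by rw [Subgroup.orderOf_coe, hy]
    have hcom : Commute x (y : G) := Subgroup.mem_centralizer_iff.1 y.2 x hx
    have := hcom.orderOf_mul_eq_mul_orderOf_of_coprime (by
      rw [hox, hoy]; rcases hr' with rfl | rfl <;> norm_num)
    rw [hox, hoy] at this
    rcases hr' with rfl | rfl
    · exact h14 _ this
    · exact h21 _ this
  have hnem : n * e = 1728 := by
    rw [hC7] at hC
    exact Nat.eq_of_mul_eq_mul_left (by norm_num) hC
  obtain ⟨rfl, rfl⟩ : n = 288 ∧ e = 6 := by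
    have := List.all_eq_true.1 pairs_12096 (n, e)
      (mem_pairs (by norm_num) (by norm_num) hn hn7 hn1 hed he2 hne)
    simpa [hnem] using this
  have hval : (Nat.card G).factorization 7 = 1 := by
    rw [hN, Nat.factorization_mul (by norm_num) (by norm_num), Finsupp.add_apply,
      hp.out.factorization_self, Nat.factorization_eq_zero_of_not_dvd (by norm_num)]
  -- the signed degrees, in increasing order
  set a : IrrCharacter G → ℤ := fun χ => S.δ χ * (charDegree (χ : G → ℂ) : ℤ) with ha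
  set L := S.X.toList.mergeSort (fun χ φ => decide (a χ ≤ a φ)) with hL
  have hperm : L.Perm S.X.toList := List.mergeSort_perm _ _
  have hmemL : ∀ χ, χ ∈ L ↔ χ ∈ S.X := fun χ => by rw [hperm.mem_iff, Finset.mem_toList]
  have hsort : L.Pairwise (fun χ φ => a χ ≤ a φ) := by
    have := List.pairwise_mergeSort (le := fun χ φ : IrrCharacter G => decide (a χ ≤ a φ))
      (fun x y z h1 h2 => by simp only [decide_eq_true_eq] at *; omega)
      (fun x y => by simp only [Bool.or_eq_true, decide_eq_true_eq]; omega) S.X.toList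
    exact this.imp fun h => by simpa using h
  have hsumL : ∀ f : IrrCharacter G → ℤ, (L.map f).sum = ∑ χ ∈ S.X, f χ := fun f => by
    rw [(hperm.map f).sum_eq, Finset.sum_map_toList]
  obtain ⟨ψ, hψ⟩ : S.Y.Nonempty := Finset.card_pos.1 (S.cardY ▸ S.cardY_pos)
  have hneX : ∀ χ ∈ S.X, χ ≠ oneIrr G := fun χ hχ h => S.one_notX (h ▸ hχ)
  have hψne : ψ ≠ oneIrr G := fun h => S.one_notY (h ▸ hψ)
  have hY : S.Y = {ψ} := by
    obtain ⟨φ, hφ⟩ := Finset.card_eq_one.1 (show S.Y.card = 1 by rw [S.cardY])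
    rw [hφ, Finset.mem_singleton] at hψ
    rw [hφ, hψ]
  set db : ℤ := S.ε * (charDegree (ψ : G → ℂ) : ℤ) with hdb
  have hb : 1 + ∑ χ ∈ S.X, a χ = db := (S.degree_relation hp.out hψ).symm
  have hcand : ∀ χ ∈ S.X, a χ ∈ ([-48, -27, -6, 8, 36, 64] : List ℤ) := by
    intro χ hχ
    have hn := natAbs_sign_mul (S.sign χ hχ) (charDegree (χ : G → ℂ))
    have h1 : charDegree (χ : G → ℂ) ^ 2 ≤ ∑ φ ∈ S.X, charDegree (φ : G → ℂ) ^ 2 :=
      Finset.single_le_sum (f := fun φ : IrrCharacter G => charDegree (φ : G → ℂ) ^ 2)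
        (fun _ _ => Nat.zero_le _) hχ
    have h2 := S.sum_sq_degree_le
    have hm : a χ ∈ cands 7 1728 (7 * 1728) 2 1 := by
      refine mem_cands (by norm_num) ?_ (by rw [ha, hn]; exact two_le_charDegree hna (hneX χ hχ))
        (S.degX χ hχ) ?_
      · rw [ha, hn]
        refine dvd_of_dvd_mul_prime hp.out (hN ▸ charDegree_dvd_card χ) fun hd => ?_
        have := dvd_sub (dvd_mul_of_dvd_right (Int.natCast_dvd_natCast.2 hd) (S.δ χ)) (S.degX χ hχ)
        simp only [sub_sub_cancel] at this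
        norm_num at this
      · rw [ha, hn, ← sq]
        omega
    simpa using List.all_eq_true.1 cands_eq _ hm
  have hdeg : degOk 7 1728 (7 * 1728) 2 6 (L.map a) = true := by
    have hn := natAbs_sign_mul S.signY (charDegree (ψ : G → ℂ))
    simp only [degOk, Bool.and_eq_true, decide_eq_true_eq, hsumL, hb, hdb, hn]
    refine ⟨⟨⟨?_, two_le_charDegree hna hψne⟩, Int.emod_eq_zero_of_dvd (S.degY ψ hψ)⟩, ?_⟩
    · refine dvd_of_dvd_mul_prime hp.out (hN ▸ charDegree_dvd_card ψ) fun hd => ?_
      have := dvd_sub (dvd_mul_of_dvd_right (Int.natCast_dvd_natCast.2 hd) S.ε) (S.degY ψ hψ)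
      simp only [sub_sub_cancel] at this
      norm_num at this
    refine le_trans (le_of_eq ?_) (hN ▸ S.sum_sq_degree_le)
    rw [List.map_map, (hperm.map _).sum_eq, Finset.sum_map_toList, hY, Finset.sum_singleton,
      Finset.sum_congr (s₁ := S.X) rfl fun χ hχ => by
        rw [Function.comp_apply, ha, natAbs_sign_mul (S.sign χ hχ), ← sq]]
    ring
  have hlist : L.map a ∈ sortedDegs := by
    have hlen : (L.map a).length = 5 := by
      rw [List.length_map, hperm.length_eq, Finset.length_toList, S.cardX]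
    have hpw : (L.map a).Pairwise (· ≤ ·) := List.pairwise_map.2 hsort
    have hm : ∀ z ∈ L.map a, z ∈ ([-48, -27, -6, 8, 36, 64] : List ℤ) := fun z hz => by
      obtain ⟨χ, hχ, rfl⟩ := List.mem_map.1 hz
      exact hcand χ ((hmemL χ).1 hχ)
    revert hdeg hlen hpw hm
    generalize L.map a = as
    intro hdeg hlen hpw hm
    match as, hlen with
    | [a1, a2, a3, a4, a5], _ =>
      simp only [List.pairwise_cons, List.mem_cons, List.not_mem_nil, or_false, forall_eq_or_imp,
        forall_eq] at hpw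
      simp only [sortedDegs, List.mem_filter, List.mem_flatMap, List.mem_map, decide_eq_true_eq]
      exact ⟨⟨a1, hm _ (by simp), a2, ⟨hm _ (by simp), hpw.1.1⟩, a3, ⟨hm _ (by simp), hpw.2.1.1⟩, a4,
        ⟨hm _ (by simp), hpw.2.2.1.1⟩, a5, ⟨hm _ (by simp), hpw.2.2.2.1⟩, rfl⟩, hdeg⟩
  obtain ⟨⟨hdv, hdbv⟩, hdb0⟩ : ((∀ z ∈ L.map a, (1728 : ℤ) % z = 0) ∧ (1728 : ℤ) % db = 0) ∧ db ≠ 0 := by
    have := List.all_eq_true.1 sortedDegs_dvd _ hlist
    simp only [Bool.and_eq_true, List.all_eq_true, decide_eq_true_eq, hsumL, hb] at this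
    exact this
  -- the data at an involution
  have hpinv : ∀ z : G, orderOf z = 2 → ¬ 7 ∣ orderOf z := fun z hz => by rw [hz]; norm_num
  have hdata : ∀ z : G, orderOf z = 2 → ∃ u : IrrCharacter G → ℤ,
      (∀ χ ∈ S.X, (χ : G → ℂ) z = ((S.δ χ * u χ : ℤ) : ℂ) ∧ u χ ∈ rngZ (a χ) ∧
        u χ ∈ parityRange (a χ) ∧ detOk (a χ) (u χ) = true ∧
        (((Subgroup.centralizer ({z} : Set G)).index : ℤ) * u χ) % a χ = 0) ∧
      ((pairCount z z x : ℤ) * ((Nat.card (Subgroup.centralizer ({z} : Set G)) : ℤ)) ^ 2 =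
        7 * intSum (L.map fun χ => (a χ, u χ))) ∧
      normSum (L.map fun χ => (a χ, u χ)) ≤ (Nat.card (Subgroup.centralizer ({z} : Set G)) : ℤ) := by
    intro z hz
    choose! v hv1 hv2 hv3 hv4 using fun (χ : IrrCharacter G) (h : χ ∈ S.X) => exists_value (hneX χ h) hz
    set u : IrrCharacter G → ℤ := fun χ => S.δ χ * v χ with hu
    have hδ : ∀ χ ∈ S.X, S.δ χ * S.δ χ = 1 := fun χ hχ => by
      rcases S.sign χ hχ with h | h <;> simp [h]
    have hzz : z * z = 1 := by rw [← sq, ← hz, pow_orderOf_eq_one]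
    have hval' : ∀ χ ∈ S.X, (χ : G → ℂ) z = ((S.δ χ * u χ : ℤ) : ℂ) := fun χ hχ => by
      rw [hu]
      show _ = ((S.δ χ * (S.δ χ * v χ) : ℤ) : ℂ)
      rw [← mul_assoc, hδ χ hχ, one_mul, hv1 χ hχ]
    have hψv : (ψ : G → ℂ) z = ((S.ε * (1 + ∑ χ ∈ S.X, u χ) : ℤ) : ℂ) := by
      have h := S.relY ψ hψ z (hpinv z hz)
      rw [Finset.sum_congr rfl fun χ hχ => by rw [hv1 χ hχ]] at h
      push_cast [hu]
      rw [← h, ← mul_assoc]
      rcases S.signY with e1 | e1 <;> simp [e1]
    refine ⟨u, fun χ hχ => ⟨hval' χ hχ, ?_, ?_, ?_, ?_⟩, ?_, ?_⟩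
    rotate_left 1
    · refine mem_parityRange ?_ ?_
      · rcases S.sign χ hχ with h | h <;> simp [hu, ha, h] <;> exact hv2 χ hχ
      · rw [hu, ha]
        exact dvd_of_eq_int ((hv3 χ hχ).mul_left (S.δ χ)) (by ring)
    · have h4 := Order5616.four_dvd hna hzz (hv1 χ hχ)
      have hpos := irr_charDegree_pos χ
      simp only [detOk, decide_eq_true_eq]
      rcases S.sign χ hχ with h | h
      · have e1 : a χ = (charDegree (χ : G → ℂ) : ℤ) := by simp [ha, h]
        rw [e1, if_neg (by omega), Int.natAbs_natCast, show u χ = v χ by simp [hu, h]]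
        omega
      · have e1 : a χ = -(charDegree (χ : G → ℂ) : ℤ) := by simp [ha, h]
        rw [e1, if_pos (by omega), Int.natAbs_neg, Int.natAbs_natCast, show u χ = -v χ by simp [hu, h],
          neg_neg]
        omega
    · have h := CfsgLib.U33Degrees.dvd_classSize (hv1 χ hχ)
      refine Int.emod_eq_zero_of_dvd ?_
      rcases S.sign χ hχ with h' | h'
      · simpa [hu, ha, h'] using h
      · simpa [hu, ha, h'] using h
    · have hcnt := pairCount_block hM hP hC7 hval S hx hx1 z
      have hsumY : ∑ φ ∈ S.Y, (φ : G → ℂ) z ^ 2 / (φ : G → ℂ) 1 * conj ((φ : G → ℂ) x) =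
          -((((1 + ∑ χ ∈ S.X, u χ) * (1 + ∑ χ ∈ S.X, u χ) : ℤ) : ℂ) / (db : ℂ)) := by
        have hs := S.sumY x hx hx1
        rw [hY, Finset.sum_singleton] at hs
        rw [hY, Finset.sum_singleton, hψv, hs, map_neg, map_intCast, ← irr_charDegree_cast, hdb]
        have hd0 : (charDegree (ψ : G → ℂ) : ℂ) ≠ 0 := Nat.cast_ne_zero.2 (irr_charDegree_pos ψ).ne'
        rcases S.signY with e1 | e1 <;> simp only [e1] <;> push_cast <;> field_simp
      have hsumX : ∑ χ ∈ S.X, (χ : G → ℂ) z ^ 2 / (χ : G → ℂ) 1 * (S.δ χ : ℂ) =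
          ∑ χ ∈ S.X, ((u χ * u χ : ℤ) : ℂ) / (a χ : ℂ) := by
        refine Finset.sum_congr rfl fun χ hχ => ?_
        have hd0 : (charDegree (χ : G → ℂ) : ℂ) ≠ 0 := Nat.cast_ne_zero.2 (irr_charDegree_pos χ).ne'
        rw [hv1 χ hχ, ← irr_charDegree_cast χ, hu, ha]
        rcases S.sign χ hχ with h | h <;> simp only [h] <;> push_cast <;> field_simp
      rw [hsumX, hsumY, hN] at hcnt
      have hint : intSum (L.map fun χ => (a χ, u χ)) = 1728 + ∑ χ ∈ S.X, u χ * u χ * (1728 / a χ) -
          (1 + ∑ χ ∈ S.X, u χ) * (1 + ∑ χ ∈ S.X, u χ) * (1728 / db) := by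
        simp only [intSum, List.map_map, Function.comp_def]
        rw [hsumL, hsumL, hsumL, hb]
      rw [hint]
      apply Int.cast_injective (α := ℂ)
      push_cast
      rw [Finset.sum_congr rfl fun χ hχ => by
          rw [mul_div_cast (hdv _ (List.mem_map.2 ⟨χ, (hmemL χ).2 hχ, rfl⟩))],
        mul_div_cast hdbv]
      push_cast at hcnt
      rw [hcnt]
      simp only [mul_add, mul_sub, Finset.mul_sum]
      have : ∀ χ ∈ S.X, (7 : ℂ) * ((u χ : ℂ) * (u χ : ℂ) * (1728 / (a χ : ℂ))) =
          7 * 1728 * ((u χ : ℂ) * (u χ : ℂ) / (a χ : ℂ)) := fun χ _ => by ring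
      rw [Finset.sum_congr rfl this]
      ring
    · have hsn := S.sum_normSq_le z
      rw [hY, Finset.sum_singleton, hψv, Complex.normSq_intCast,
        Finset.sum_congr (s₁ := S.X) rfl fun χ hχ => by rw [hval' χ hχ, Complex.normSq_intCast]] at hsn
      have hns : normSum (L.map fun χ => (a χ, u χ)) = 1 + ∑ χ ∈ S.X, u χ * u χ +
          (1 + ∑ χ ∈ S.X, u χ) * (1 + ∑ χ ∈ S.X, u χ) := by
        simp only [normSum, List.map_map, Function.comp_def]
        rw [hsumL, hsumL]
      rw [hns]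
      refine (Int.cast_le (R := ℝ)).1 ?_
      push_cast
      rw [Finset.sum_congr (s₁ := S.X) rfl fun χ hχ => show ((S.δ χ * u χ : ℤ) : ℝ) * ((S.δ χ * u χ : ℤ) : ℝ) =
          (u χ : ℝ) * (u χ : ℝ) by
        rcases S.sign χ hχ with h | h <;> simp [h]] at hsn
      rcases S.signY with e1 | e1 <;> rw [e1] at hsn <;> push_cast at hsn <;> linarith
    · simp only [rngZ, List.mem_filter, decide_eq_true_eq]
      refine ⟨?_, fun h => hv4 χ hχ ?_⟩
      · refine mem_parityRange ?_ ?_
        · rcases S.sign χ hχ with h | h <;> simp [hu, ha, h] <;> exact hv2 χ hχ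
        · rw [hu, ha]
          exact dvd_of_eq_int ((hv3 χ hχ).mul_left (S.δ χ)) (by ring)
      · have := congrArg (fun k => S.δ χ * k) h
        simp only [hu, ha, ← mul_assoc, hδ χ hχ, one_mul] at this
        exact this
  have he6 : 2 ∣ 6 := by norm_num
  obtain ⟨t, ht, hinv⟩ := exists_inverting (P := P) (by norm_num) hP hC7 he6 hNe
  obtain ⟨u, hu, heq, hnorm⟩ := hdata t ht
  rw [pairCount_self (by norm_num) hP hC7 ht hinv hx hx1] at heq
  set c := Nat.card (Subgroup.centralizer ({t} : Set G)) with hc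
  have hcent : ∀ z : G, orderOf z = 2 → Nat.card (Subgroup.centralizer ({z} : Set G)) ∈ invCents := by
    intro z hz
    set cz := Nat.card (Subgroup.centralizer ({z} : Set G)) with hcz
    have hd : cz ∣ 12096 := hN0 ▸ Subgroup.card_subgroup_dvd_card _
    simp only [invCents, involCents, List.mem_filter, List.mem_range, Bool.and_eq_true, decide_eq_true_eq,
      Bool.not_eq_true', decide_eq_false_iff_not]
    refine ⟨Nat.lt_succ_of_le (Nat.le_of_dvd (by norm_num) hd), ⟨Nat.mod_eq_zero_of_dvd hd,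
      Nat.mod_eq_zero_of_dvd ?_⟩, fun h7 => ?_⟩
    · have := Subgroup.card_dvd_of_le (Subgroup.zpowers_le.2
        (Subgroup.mem_centralizer_singleton_iff.2 rfl) :
        Subgroup.zpowers z ≤ Subgroup.centralizer ({z} : Set G))
      rwa [Nat.card_zpowers, hz] at this
    · obtain ⟨y, hy⟩ := exists_prime_orderOf_dvd_card' 7 (Nat.dvd_of_mod_eq_zero h7)
      have hoy : orderOf (y : G) = 7 := by rw [Subgroup.orderOf_coe, hy]
      have hcom : Commute (y : G) z := Subgroup.mem_centralizer_singleton_iff.1 y.2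
      have := hcom.orderOf_mul_eq_mul_orderOf_of_coprime (by rw [hoy, hz]; norm_num)
      rw [hoy, hz] at this
      exact h14 _ this
  have hcI : intSum (L.map fun χ => (a χ, u χ)) = ((c * c : ℕ) : ℤ) := by
    push_cast at heq ⊢; linarith [heq]
  have hvalb : ∀ χ ∈ S.X, u χ ∈ rngI (a χ) := by
    intro χ hχ
    simp only [rngI, rngT, List.mem_filter, decide_eq_true_eq]
    refine ⟨⟨(hu χ hχ).2.2.1, ?_⟩, (hu χ hχ).2.2.2.1⟩
    have hb1 := value_bound (by norm_num) hP ht hinv (δ := S.δ χ) (v := S.δ χ * u χ) (fun y hy hy1 => by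
      have := S.valX χ hχ y hy hy1 1 (one_mem _) (by rw [orderOf_one]; norm_num)
      rwa [mul_one] at this) (hu χ hχ).1
    zify
    rcases S.sign χ hχ with h | h <;> rw [h] at hb1 <;> simp [ha, h] at hb1 ⊢
    · exact hb1.trans (le_abs.2 (Or.inl (by linarith)))
    · exact le_trans (by linarith) (le_abs.2 (Or.inr le_rfl))
  have hs := List.all_eq_true.1 search_12096 _ hlist
  have hfst : ∀ w : IrrCharacter G → ℤ, (L.map fun χ => (a χ, w χ)).map Prod.fst = L.map a := fun w => by
    rw [List.map_map]; rfl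
  have hTmem : ∀ y ∈ L.map (fun χ => (a χ, u χ)), y.2 ∈ rngI y.1 := fun y hy => by
    obtain ⟨χ, hχ, rfl⟩ := List.mem_map.1 hy
    exact hvalb χ ((hmemL χ).1 hχ)
  have hT : hasT (L.map a) = true := by
    rw [hasT, ← hfst u]
    refine uSearch_complete _ [] hTmem ?_
    rw [List.append_nil, List.any_eq_true]
    refine ⟨c, hcent t ht, ?_⟩
    rw [(perm_intSum (List.reverse_perm _)).1, (perm_intSum (List.reverse_perm _)).2]
    simp [hcI, hnorm]
  simp only [hT, Bool.not_true, Bool.false_or, Bool.and_eq_true, Bool.not_eq_true'] at hs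
  -- an involution in the centre of a Sylow `2`-subgroup
  haveI : Fact (Nat.Prime 2) := ⟨Nat.prime_two⟩
  obtain ⟨Q⟩ : Nonempty (Sylow 2 G) := inferInstance
  have hQ : Nat.card Q = 64 := by
    have := SmallOrder.card_sylow_eq (k := 6) Q (by rw [hN0]; norm_num) (by rw [hN0]; norm_num)
    simpa using this
  haveI : Nontrivial Q := Finite.one_lt_card_iff_nontrivial.1 (by rw [hQ]; norm_num)
  haveI := Q.2.center_nontrivial
  obtain ⟨j, hj⟩ := (IsPGroup.to_subgroup Q.2 (Subgroup.center Q)).exists_card_eq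
  have hj0 : j ≠ 0 := fun h => by
    rw [h, pow_zero] at hj
    exact (Finite.one_lt_card_iff_nontrivial.2 (inferInstance : Nontrivial (Subgroup.center Q))).ne' hj
  obtain ⟨z, hz⟩ := exists_prime_orderOf_dvd_card' (G := Subgroup.center Q) 2 (hj ▸ dvd_pow_self 2 hj0)
  have hzG : orderOf ((z : Q) : G) = 2 := by rw [Subgroup.orderOf_coe, Subgroup.orderOf_coe, hz]
  have hQle : (Q : Subgroup G) ≤ Subgroup.centralizer ({((z : Q) : G)} : Set G) := fun g hg =>
    Subgroup.mem_centralizer_singleton_iff.2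
      (congrArg Subtype.val (Subgroup.mem_center_iff.1 z.2 ⟨g, hg⟩))
  set cz := Nat.card (Subgroup.centralizer ({((z : Q) : G)} : Set G)) with hcz
  have hbig : cz ∈ bigCents := by
    have h64 : 64 ∣ cz := by
      have := Subgroup.card_dvd_of_le hQle
      rwa [show Nat.card (Q : Subgroup G) = 64 from hQ] at this
    have := List.all_eq_true.1 invCents_ok cz (hcent _ hzG)
    simpa [Nat.mod_eq_zero_of_dvd h64] using this
  by_cases hzt : IsConj t ((z : Q) : G)
  · have hcc : c = cz := by
      obtain ⟨s, hs'⟩ := isConj_iff.1 hzt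
      have h1 := card_isConj_mul_card_centralizer t
      have h2 := card_isConj_mul_card_centralizer ((z : Q) : G)
      rw [Nat.card_congr (Equiv.subtypeEquivRight fun y =>
        (⟨fun h => hzt.trans h, fun h => hzt.symm.trans h⟩ :
          IsConj ((z : Q) : G) y ↔ IsConj t y))] at h2
      refine Nat.eq_of_mul_eq_mul_left ?_ (h1.trans h2.symm)
      haveI : Nonempty {y : G // IsConj t y} := ⟨⟨t, IsConj.refl t⟩⟩
      exact Nat.card_pos
    have hB : hasBigT (L.map a) = true := by
      rw [hasBigT, ← hfst u]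
      refine uSearch_complete _ [] hTmem ?_
      rw [List.append_nil, List.any_eq_true]
      refine ⟨c, hcc ▸ hbig, ?_⟩
      rw [(perm_intSum (List.reverse_perm _)).1, (perm_intSum (List.reverse_perm _)).2]
      simp [hcI, hnorm]
    rw [hB] at hs
    simp at hs
  · obtain ⟨w, hw, hweq, hwn⟩ := hdata _ hzG
    rw [pairCount_other (by norm_num) hP hC7 ht hinv hx hx1 hzG hzt, Nat.cast_zero, zero_mul] at hweq
    have hZ : hasZ (L.map a) = true := by
      rw [hasZ, List.any_eq_true]
      refine ⟨cz, hbig, ?_⟩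
      rw [← hfst w]
      refine uSearch_complete _ [] (fun y hy => ?_) ?_
      · obtain ⟨χ, hχ, rfl⟩ := List.mem_map.1 hy
        have hχX := (hmemL χ).1 hχ
        obtain ⟨-, h2, -, h4, h5⟩ := hw χ hχX
        simp only [rngC, List.mem_filter, Bool.and_eq_true, decide_eq_true_eq]
        refine ⟨h2, ⟨h4, ?_⟩, ?_⟩
        · have hidx : cz * (Subgroup.centralizer ({((z : Q) : G)} : Set G)).index = 12096 :=
            hN0 ▸ Subgroup.card_mul_index _
          rw [show 12096 / cz = (Subgroup.centralizer ({((z : Q) : G)} : Set G)).index by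
            rw [← hidx, Nat.mul_div_cancel_left _ Nat.card_pos]]
          exact h5
        · refine le_trans ?_ hwn
          simp only [normSum, List.map_map, Function.comp_def]
          rw [hsumL]
          have := Finset.single_le_sum (f := fun φ => w φ * w φ) (fun φ _ => mul_self_nonneg _) hχX
          have h0 := mul_self_nonneg (1 + (L.map fun χ => w χ).sum)
          linarith
      · rw [List.append_nil, (perm_intSum (List.reverse_perm _)).1, (perm_intSum (List.reverse_perm _)).2]
        simp [show intSum (L.map fun χ => (a χ, w χ)) = 0 by omega, hwn]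
        exact hwn
    rw [hZ] at hs
    simp at hs

end CfsgLib.U33Recog
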