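import Cfsg.Agent.Lib.U33Recog.Aut
import Cfsg.Agent.Lib.U33Recog.NoSimple
import Cfsg.Agent.Lib.Glauberman.Solvable
import Cfsg.Agent.Lib.CharTheory.Burnside
import Cfsg.Agent.Lib.SmallOrders.OrdersBelow3641
import Cfsg.Agent.S0983

/-!
# Groups of order `12096` without elements of orders `9`, `14` and `21`
-/

namespace CfsgLib.U33Recog

open scoped Pointwise

set_option autoImplicit false
set_option linter.unusedVariables false
set_option linter.style.haveILetI false
set_option linter.unusedSectionVars false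

universe u v

variable {G : Type u} [Group G] [Finite G]

/-- An element of order `7` fixes a nontrivial element of every subgroup it normalises whose order
is not `1` modulo `7`. -/
theorem exists_commute_of_mod {x : G} (hx : orderOf x = 7) {H : Subgroup G}
    (hxH : x ∈ Subgroup.normalizer (H : Set G)) (hH : Nat.card H % 7 ≠ 1) :
    ∃ y ∈ H, y ≠ 1 ∧ Commute x y := by
  classical
  haveI : Fact (Nat.Prime 7) := ⟨by norm_num⟩
  haveI : Fintype H := Fintype.ofFinite H
  let f := (MulAut.toPerm H).comp H.normalizerMonoidHom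
  set σ : Equiv.Perm H := f ⟨x, hxH⟩ with hσdef
  have hσ : σ ^ 7 ^ 1 = 1 := by
    rw [hσdef, ← map_pow, show (⟨x, hxH⟩ : Subgroup.normalizer (H : Set G)) ^ 7 ^ 1 = 1 from
      Subtype.ext (show x ^ 7 ^ 1 = 1 by rw [pow_one, ← hx, pow_orderOf_eq_one]), map_one]
  have hval : ∀ h : H, ((σ h : H) : G) = x * (h : G) * x⁻¹ := fun h => rfl
  by_contra hno
  refine hH ?_
  have hfix : σ.supportᶜ = {(1 : H)} := by
    ext h
    rw [Finset.mem_compl, Equiv.Perm.mem_support, not_not, Finset.mem_singleton]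
    refine ⟨fun he => ?_, fun he => by rw [he]; exact Subtype.ext (by rw [hval]; simp)⟩
    by_contra h1
    refine hno ⟨h, h.2, fun h2 => h1 (Subtype.ext h2), ?_⟩
    have h3 := hval h
    rw [he] at h3
    exact (mul_inv_eq_iff_eq_mul.1 h3.symm : x * (h : G) = (h : G) * x)
  have := Equiv.Perm.card_compl_support_modEq hσ
  rw [hfix, Finset.card_singleton, ← Nat.card_eq_fintype_card] at this
  exact this.symm

theorem not_commute {p : ℕ} (hp : p.Prime) (hp7 : p ≠ 7) (hno : ∀ g : G, orderOf g ≠ 7 * p)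
    {x y : G} (hx : orderOf x = 7) (hy : orderOf y = p) : ¬ Commute x y := fun h => by
  have := h.orderOf_mul_eq_mul_orderOf_of_coprime (by
    rw [hx, hy]; exact (Nat.coprime_primes (by norm_num) hp).2 (Ne.symm hp7))
  rw [hx, hy] at this
  exact hno _ this

theorem prime_dvd_12096 {p m : ℕ} (hp : p.Prime) (h : p ∣ m) (hm : m ∣ 12096) : p = 2 ∨ p = 3 ∨ p = 7 := by
  have h2 : p ∣ 2 ^ 6 * 3 ^ 3 * 7 := (h.trans hm).trans (by norm_num)
  rcases hp.dvd_mul.1 h2 with h3 | h3
  · rcases hp.dvd_mul.1 h3 with h4 | h4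
    · exact Or.inl ((Nat.prime_dvd_prime_iff_eq hp Nat.prime_two).1 (hp.dvd_of_dvd_pow h4))
    · exact Or.inr (Or.inl ((Nat.prime_dvd_prime_iff_eq hp Nat.prime_three).1 (hp.dvd_of_dvd_pow h4)))
  · exact Or.inr (Or.inr ((Nat.prime_dvd_prime_iff_eq hp (by norm_num)).1 h3))

/-- A nontrivial subgroup of order prime to `7` does not centralise an element of order `7`. -/
theorem centralizer_seven (hN : Nat.card G = 12096) (h14 : ∀ g : G, orderOf g ≠ 14)
    (h21 : ∀ g : G, orderOf g ≠ 21) {x : G} (hx : orderOf x = 7) {C : Subgroup G}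
    (hC : ∀ y ∈ C, Commute x y) : Nat.card C ∣ 7 := by
  classical
  have hd : Nat.card C ∣ 12096 := hN ▸ Subgroup.card_subgroup_dvd_card C
  by_contra hne
  obtain ⟨p, hp, hpC, hp7⟩ : ∃ p, p.Prime ∧ p ∣ Nat.card C ∧ p ≠ 7 := by
    by_contra hall
    refine hne ?_
    have h7 : ∀ p, p.Prime → p ∣ Nat.card C → p = 7 := fun p hp hpd =>
      by_contra fun h => hall ⟨p, hp, hpd, h⟩
    have hcop : (Nat.card C).Coprime 1728 := Nat.coprime_of_dvd fun p hp hpd hp' => by
      have := h7 p hp hpd
      subst this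
      norm_num at hp'
    exact hcop.dvd_of_dvd_mul_right (hd.trans (by norm_num))
  haveI : Fact p.Prime := ⟨hp⟩
  obtain ⟨y, hy⟩ := exists_prime_orderOf_dvd_card' (G := C) p hpC
  have hoy : orderOf (y : G) = p := by rw [Subgroup.orderOf_coe, hy]
  refine not_commute hp hp7 ?_ hx hoy (hC _ y.2)
  rcases prime_dvd_12096 hp hpC hd with rfl | rfl | rfl
  · exact h14
  · exact h21
  · exact absurd rfl hp7

theorem card_three_mod {m : ℕ} (h : m ∣ 12096) (h3 : ∃ k, m = 3 ^ k) (h1 : m ≠ 1) : m % 7 ≠ 1 := by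
  obtain ⟨k, rfl⟩ := h3
  have hk : k ≤ 3 := by
    by_contra hk
    exact absurd ((pow_dvd_pow 3 (show 4 ≤ k by omega)).trans h) (by norm_num)
  interval_cases k <;> simp_all

/-- No normal subgroup of order prime to `7` is divisible by `3`. -/
theorem not_three_dvd (hN : Nat.card G = 12096) (h21 : ∀ g : G, orderOf g ≠ 21) {K : Subgroup G}
    [K.Normal] (h7 : ¬ 7 ∣ Nat.card K) : ¬ 3 ∣ Nat.card K := by
  classical
  intro h3
  haveI : Fact (Nat.Prime 3) := ⟨Nat.prime_three⟩
  haveI : Fact (Nat.Prime 7) := ⟨by norm_num⟩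
  obtain ⟨Q⟩ : Nonempty (Sylow 3 K) := inferInstance
  set H : Subgroup G := (Q : Subgroup K).map K.subtype with hH
  have hsup : Subgroup.normalizer (H : Set G) ⊔ K = ⊤ := Q.normalizer_sup_eq_top
  have hidx : K.index ∣ Nat.card (Subgroup.normalizer (H : Set G)) := by
    rw [← Subgroup.relIndex_top_right, ← hsup, Subgroup.relIndex_sup_right]
    exact Subgroup.relIndex_dvd_card _ _
  have hx7 : 7 ∣ Nat.card (Subgroup.normalizer (H : Set G)) := by
    refine dvd_trans ?_ hidx
    have := K.card_mul_index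
    rw [hN] at this
    exact (Nat.Prime.dvd_mul (by norm_num : Nat.Prime 7)).1 (this ▸ (by norm_num : 7 ∣ 12096)) |>.resolve_left h7
  obtain ⟨x, hx⟩ := exists_prime_orderOf_dvd_card' (G := Subgroup.normalizer (H : Set G)) 7 hx7
  have hox : orderOf (x : G) = 7 := by rw [Subgroup.orderOf_coe, hx]
  have hcard : Nat.card H = Nat.card Q :=
    (Nat.card_congr ((Q : Subgroup K).equivMapOfInjective K.subtype K.subtype_injective).toEquiv).symm
  obtain ⟨k, hk⟩ := IsPGroup.iff_card.1 Q.2
  have hne : Nat.card H ≠ 1 := by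
    rw [hcard]
    intro h
    have h' := Q.dvd_card_of_dvd_card h3
    rw [h] at h'
    norm_num at h'
  obtain ⟨y, hy, hy1, hc⟩ := exists_commute_of_mod hox x.2
    (card_three_mod (hN ▸ Subgroup.card_subgroup_dvd_card H) ⟨k, hcard.trans hk⟩ hne)
  obtain ⟨z, hzQ, hzy⟩ := Subgroup.mem_map.1 hy
  obtain ⟨j, hj⟩ := Q.2 ⟨z, hzQ⟩
  have hyp : ∃ j, orderOf y = 3 ^ j := by
    refine ((Nat.dvd_prime_pow Nat.prime_three).1 (orderOf_dvd_of_pow_eq_one (n := 3 ^ j) ?_)).imp fun _ h => h.2
    have := congrArg (fun q : (Q : Subgroup K) => ((q : K) : G)) hj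
    rw [← hzy]
    simpa using this
  obtain ⟨j, hj⟩ := hyp
  have hj0 : j ≠ 0 := fun h => hy1 (orderOf_eq_one_iff.1 (by rw [hj, h, pow_zero]))
  refine not_commute Nat.prime_three (by norm_num) h21 hox
    (orderOf_pow_orderOf_div (orderOf_pos y).ne' (hj ▸ dvd_pow_self 3 hj0)) (hc.pow_right _)

/-- A minimal nontrivial normal subgroup exists. -/
theorem exists_minimal_normal [Nontrivial G] : ∃ N : Subgroup G, N.Normal ∧ N ≠ ⊥ ∧
    ∀ M : Subgroup G, M.Normal → M ≤ N → M ≠ ⊥ → M = N := by
  obtain ⟨N, ⟨hn, hne⟩, hmin⟩ := (Set.toFinite {N : Subgroup G | N.Normal ∧ N ≠ ⊥}).exists_minimal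
    ⟨⊤, inferInstance, top_ne_bot⟩
  exact ⟨N, hn, hne, fun M hM hle hb => le_antisymm hle (hmin ⟨hM, hb⟩ hle)⟩

/-- The minimal normal subgroups have order divisible by `7`. -/
theorem seven_dvd_normal (hN : Nat.card G = 12096) (h14 : ∀ g : G, orderOf g ≠ 14)
    (h21 : ∀ g : G, orderOf g ≠ 21) {N : Subgroup G} [N.Normal] (hne : N ≠ ⊥) : 7 ∣ Nat.card N := by
  classical
  by_contra h7
  have h3 := not_three_dvd hN h21 h7
  have hd : Nat.card N ∣ 2 ^ 6 := by
    have hd0 : Nat.card N ∣ 12096 := hN ▸ Subgroup.card_subgroup_dvd_card N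
    refine Nat.Coprime.dvd_of_dvd_mul_right (n := 3 ^ 3) ?_
      (Nat.Coprime.dvd_of_dvd_mul_right (n := 7) ?_ (hd0.trans (by norm_num)))
    · exact Nat.Coprime.pow_right _ (Nat.prime_three.coprime_iff_not_dvd.2 h3).symm
    · exact ((Nat.Prime.coprime_iff_not_dvd (by norm_num)).2 h7).symm
  obtain ⟨a, ha6, ha⟩ := (Nat.dvd_prime_pow Nat.prime_two).1 hd
  have ha0 : a ≠ 0 := fun h => hne (Subgroup.eq_bot_of_card_eq _ (by rw [ha, h, pow_zero]))
  haveI : Fact (Nat.Prime 7) := ⟨by norm_num⟩
  haveI : Fact (Nat.Prime 3) := ⟨Nat.prime_three⟩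
  haveI : Fact (Nat.Prime 2) := ⟨Nat.prime_two⟩
  obtain ⟨x, hx⟩ := exists_prime_orderOf_dvd_card' (G := G) 7 (by rw [hN]; norm_num)
  have hmod : 2 ^ a % 7 = 1 := by
    by_contra hmod
    obtain ⟨y, hy, hy1, hc⟩ := exists_commute_of_mod hx (H := N)
      (by rw [Subgroup.normalizer_eq_top]; exact Subgroup.mem_top _) (by rw [ha]; exact hmod)
    have hoy : orderOf y ∣ 2 ^ a := ha ▸ Subgroup.orderOf_dvd_natCard N hy
    obtain ⟨j, -, hj⟩ := (Nat.dvd_prime_pow Nat.prime_two).1 hoy
    have hj0 : j ≠ 0 := fun h => hy1 (orderOf_eq_one_iff.1 (by rw [hj, h, pow_zero]))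
    exact not_commute Nat.prime_two (by norm_num) h14 hx
      (orderOf_pow_orderOf_div (orderOf_pos y).ne' (hj ▸ dvd_pow_self 2 hj0)) (hc.pow_right _)
  obtain rfl | rfl : a = 3 ∨ a = 6 := by
    interval_cases a <;> simp_all
  · -- order `8`: the centraliser is too big
    let φ : G →* Equiv.Perm N := (MulAut.toPerm N).comp MulAut.conjNormal
    have hker : φ.ker.index ∣ 40320 := by
      rw [Subgroup.index_ker]
      refine (Subgroup.card_subgroup_dvd_card _).trans ?_
      rw [Nat.card_perm, ha]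
      decide
    have hprod := φ.ker.card_mul_index
    rw [hN] at hprod
    have hk3 : 3 ∣ Nat.card φ.ker := by
      by_contra hk
      have h27 : 3 ^ 3 ∣ Nat.card φ.ker * φ.ker.index := hprod ▸ (by norm_num)
      have := (Nat.Coprime.dvd_of_dvd_mul_left
        (Nat.Coprime.pow_left 3 (Nat.prime_three.coprime_iff_not_dvd.2 hk)) h27).trans hker
      norm_num at this
    refine not_three_dvd hN h21 (fun hk7 => ?_) hk3
    obtain ⟨z, hz⟩ := exists_prime_orderOf_dvd_card' (G := φ.ker) 7 hk7
    obtain ⟨y, hy⟩ := exists_prime_orderOf_dvd_card' (G := N) 2 (by rw [ha]; norm_num)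
    refine not_commute Nat.prime_two (by norm_num) h14 (x := (z : G)) (y := (y : G))
      (by rw [Subgroup.orderOf_coe, hz]) (by rw [Subgroup.orderOf_coe, hy]) ?_
    have h1 : φ (z : G) = 1 := z.2
    have h2 : (z : G) * (y : G) * (z : G)⁻¹ = y := congrArg Subtype.val (Equiv.congr_fun h1 y)
    exact mul_inv_eq_iff_eq_mul.1 h2
  · -- order `64`: the quotient has an element of order `21`
    have hH : Nat.card (G ⧸ N) = 189 := by
      have := Subgroup.card_eq_card_quotient_mul_card_subgroup N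
      rw [hN, ha] at this
      omega
    obtain ⟨P⟩ : Nonempty (Sylow 7 (G ⧸ N)) := inferInstance
    haveI : (P : Subgroup (G ⧸ N)).Normal := by
      have h1 := P.card_dvd_index
      have h2 := card_sylow_modEq_one 7 (G ⧸ N)
      have hP : Nat.card P = 7 := by
        have := SmallOrder.card_sylow_eq (k := 1) P (by rw [hH]; norm_num) (by rw [hH]; norm_num)
        simpa using this
      have h3 := (P : Subgroup (G ⧸ N)).card_mul_index
      rw [hH, show Nat.card (P : Subgroup (G ⧸ N)) = 7 from hP] at h3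
      have h4 : (P : Subgroup (G ⧸ N)).index = 27 := by omega
      rw [h4] at h1
      obtain ⟨j, hj, hjc⟩ := (Nat.dvd_prime_pow Nat.prime_three).1 (show _ ∣ 3 ^ 3 from h1)
      have hcard : Nat.card (Sylow 7 (G ⧸ N)) = 1 := by
        rw [hjc] at h2
        rw [hjc]
        interval_cases j <;> simp_all [Nat.ModEq]
      have : Subsingleton (Sylow 7 (G ⧸ N)) := (Nat.card_eq_one_iff_unique.1 hcard).1
      exact P.normal_of_subsingleton
    have hP : Nat.card (P : Subgroup (G ⧸ N)) = 7 := by
      have := SmallOrder.card_sylow_eq (k := 1) P (by rw [hH]; norm_num) (by rw [hH]; norm_num)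
      simpa using this
    let ψ : (G ⧸ N) →* MulAut (P : Subgroup (G ⧸ N)) := MulAut.conjNormal
    haveI : IsCyclic (P : Subgroup (G ⧸ N)) := isCyclic_of_prime_card hP
    have hker : ψ.ker.index ∣ 6 := by
      rw [Subgroup.index_ker]
      refine (Subgroup.card_subgroup_dvd_card _).trans ?_
      rw [IsCyclic.card_mulAut, hP]
      decide
    have hprod := ψ.ker.card_mul_index
    rw [hH] at hprod
    have hk3 : 3 ∣ Nat.card ψ.ker := by
      by_contra hk
      have h27 : 3 ^ 3 ∣ Nat.card ψ.ker * ψ.ker.index := hprod ▸ (by norm_num)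
      have := (Nat.Coprime.dvd_of_dvd_mul_left
        (Nat.Coprime.pow_left 3 (Nat.prime_three.coprime_iff_not_dvd.2 hk)) h27).trans hker
      norm_num at this
    obtain ⟨z, hz⟩ := exists_prime_orderOf_dvd_card' (G := ψ.ker) 3 hk3
    obtain ⟨y, hy⟩ := exists_prime_orderOf_dvd_card' (G := (P : Subgroup (G ⧸ N))) 7 (by rw [hP])
    have hc : Commute (y : G ⧸ N) (z : G ⧸ N) := by
      have h1 : ψ (z : G ⧸ N) = 1 := z.2
      have h2 : (z : G ⧸ N) * (y : G ⧸ N) * (z : G ⧸ N)⁻¹ = y :=
        congrArg Subtype.val (MulEquiv.congr_fun h1 y)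
      exact (mul_inv_eq_iff_eq_mul.1 h2).symm
    have hoy : orderOf (y : G ⧸ N) = 7 := by rw [Subgroup.orderOf_coe, hy]
    have hoz : orderOf (z : G ⧸ N) = 3 := by rw [Subgroup.orderOf_coe, hz]
    have h := hc.orderOf_mul_eq_mul_orderOf_of_coprime (by rw [hoy, hoz]; norm_num)
    rw [hoy, hoz] at h
    obtain ⟨g, hg⟩ := QuotientGroup.mk'_surjective N ((y : G ⧸ N) * z)
    have hdvd : 21 ∣ orderOf g := by
      have := orderOf_map_dvd (QuotientGroup.mk' N) g
      rwa [hg, h] at this
    exact h21 _ (orderOf_pow_orderOf_div (orderOf_pos g).ne' hdvd)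

/-- The conjugates of a normal `p`-subgroup of a normal subgroup lie in each of its Sylow subgroups. -/
theorem normalClosure_le {p : ℕ} [Fact p.Prime] {N : Subgroup G} [N.Normal] {Q : Subgroup N}
    [Q.Normal] (hQ : IsPGroup p Q) (T : Sylow p N) :
    Subgroup.normalClosure ((Q.map N.subtype : Subgroup G) : Set G) ≤ (T : Subgroup N).map N.subtype := by
  refine (Subgroup.closure_le _).2 fun y hy => ?_
  obtain ⟨s, hs, hsy⟩ := Group.mem_conjugatesOfSet_iff.1 hy
  obtain ⟨c, rfl⟩ := isConj_iff.1 hsy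
  obtain ⟨q, hq, rfl⟩ := hs
  let e : MulAut N := MulAut.conjNormal c
  haveI : (Q.map e.toMonoidHom).Normal := ‹Q.Normal›.map _ e.surjective
  have hle : Q.map e.toMonoidHom ≤ T := by
    have := T.3 (IsPGroup.to_sup_of_normal_left (hQ.map e.toMonoidHom) T.2) le_sup_right
    exact this ▸ le_sup_left
  exact ⟨e q, hle ⟨q, hq, rfl⟩, rfl⟩

/-- A minimal normal subgroup is a simple group of order `6048`. -/
theorem minimal_normal (hN : Nat.card G = 12096) (h9 : ∀ g : G, orderOf g ≠ 9) (h14 : ∀ g : G, orderOf g ≠ 14)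
    (h21 : ∀ g : G, orderOf g ≠ 21) {N : Subgroup G} [N.Normal] (hne : N ≠ ⊥)
    (hmin : ∀ M : Subgroup G, M.Normal → M ≤ N → M ≠ ⊥ → M = N) :
    IsSimpleGroup N ∧ Nat.card N = 6048 := by
  classical
  haveI : Fact (Nat.Prime 7) := ⟨by norm_num⟩
  have h7 := seven_dvd_normal hN h14 h21 hne
  obtain ⟨P⟩ : Nonempty (Sylow 7 N) := inferInstance
  have hNd : Nat.card N ∣ 12096 := hN ▸ Subgroup.card_subgroup_dvd_card N
  have hP : Nat.card P = 7 := by
    have := SmallOrder.card_sylow_eq (k := 1) P (by simpa using h7)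
      (fun h => absurd (h.trans hNd) (by norm_num))
    simpa using this
  obtain ⟨x, hx⟩ := exists_prime_orderOf_dvd_card' (G := (P : Subgroup N)) 7
    (dvd_of_eq (hP.symm))
  have hox : orderOf ((x : N) : G) = 7 := by rw [Subgroup.orderOf_coe, Subgroup.orderOf_coe, hx]
  -- the normaliser of a Sylow `7`-subgroup
  set H : Subgroup G := (P : Subgroup N).map N.subtype with hHdef
  have hH : Nat.card H = 7 :=
    (Nat.card_congr ((P : Subgroup N).equivMapOfInjective N.subtype N.subtype_injective).toEquiv).symm.trans hP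
  have hnorm : Nat.card (Subgroup.normalizer (H : Set G)) ∣ 42 := by
    haveI : IsCyclic H := isCyclic_of_prime_card hH
    let φ := H.normalizerMonoidHom
    rw [← φ.ker.card_mul_index]
    refine mul_dvd_mul (a := _) (b := 7) (c := _) (d := 6) ?_ ?_
    · refine (dvd_of_eq ?_).trans (centralizer_seven hN h14 h21 hox
        (C := φ.ker.map (Subgroup.normalizer (H : Set G)).subtype) ?_)
      · exact Nat.card_congr (φ.ker.equivMapOfInjective _ (Subgroup.subtype_injective _)).toEquiv
      · rintro _ ⟨⟨c, hcn⟩, hc, rfl⟩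
        have h1 : φ ⟨c, hcn⟩ = 1 := hc
        have h2 : c * ((x : N) : G) * c⁻¹ = (x : N) :=
          congrArg Subtype.val (MulEquiv.congr_fun h1 ⟨_, Subgroup.mem_map_of_mem _ x.2⟩)
        exact (mul_inv_eq_iff_eq_mul.1 h2).symm
    · rw [Subgroup.index_ker]
      refine (Subgroup.card_subgroup_dvd_card _).trans ?_
      rw [IsCyclic.card_mulAut, hH]
      decide
  have hidx : N.index ∣ 6 := by
    have hsup : Subgroup.normalizer (H : Set G) ⊔ N = ⊤ := P.normalizer_sup_eq_top
    have h1 : N.index ∣ 42 := by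
      refine dvd_trans ?_ hnorm
      rw [← Subgroup.relIndex_top_right, ← hsup, Subgroup.relIndex_sup_right]
      exact Subgroup.relIndex_dvd_card _ _
    refine Nat.Coprime.dvd_of_dvd_mul_left (m := 7) ?_ h1
    refine ((Nat.Prime.coprime_iff_not_dvd (by norm_num)).2 fun h => ?_).symm
    have := N.card_mul_index
    rw [hN] at this
    have := mul_dvd_mul h7 h
    rw [‹Nat.card N * N.index = 12096›] at this
    norm_num at this
  have hprod := N.card_mul_index
  rw [hN] at hprod
  have hbig : 2016 ≤ Nat.card N := by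
    have := Nat.le_of_dvd (by norm_num) hidx
    nlinarith
  -- every nontrivial normal subgroup of `N` is the whole of it
  have hsimple : IsSimpleGroup N := by
    haveI : Nontrivial N := (Subgroup.nontrivial_iff_ne_bot N).2 hne
    refine ⟨fun M hM => ?_⟩
    by_contra hcon
    rw [not_or] at hcon
    obtain ⟨hMb, hMt⟩ := hcon
    by_cases hM7 : 7 ∣ Nat.card M
    · -- `M` contains all elements of order `7`
      have hMidx : ¬ 7 ∣ M.index := fun h => by
        have := (mul_dvd_mul hM7 h).trans (dvd_of_eq M.card_mul_index) |>.trans hNd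
        norm_num at this
      have hall : ∀ g : G, orderOf g = 7 → ∀ hg : g ∈ N, (⟨g, hg⟩ : N) ∈ M := fun g hg hgN => by
        rw [← QuotientGroup.eq_one_iff (N := M), ← orderOf_eq_one_iff]
        refine Nat.eq_one_of_dvd_coprimes ((Nat.Prime.coprime_iff_not_dvd (by norm_num : Nat.Prime 7)).2 hMidx)
          ?_ (orderOf_dvd_natCard _)
        refine (orderOf_map_dvd (QuotientGroup.mk' M) (⟨g, hgN⟩ : N)).trans (dvd_of_eq ?_)
        rw [← Subgroup.orderOf_coe]
        exact hg
      let S : Set G := {g | orderOf g = 7 ∧ g ∈ N}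
      have hSN : Subgroup.normalClosure S ≤ N := Subgroup.normalClosure_le_normal fun g hg => hg.2
      have hxS : ((x : N) : G) ∈ Subgroup.normalClosure S :=
        Subgroup.subset_normalClosure ⟨hox, (x : N).2⟩
      have heq := hmin _ inferInstance hSN fun hb => by
        rw [hb, Subgroup.mem_bot] at hxS
        rw [hxS, orderOf_one] at hox
        norm_num at hox
      refine hMt (eq_top_iff.2 fun g _ => ?_)
      have hle : Subgroup.normalClosure S ≤ M.map N.subtype := by
        refine (Subgroup.closure_le _).2 fun s hs => ?_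
        obtain ⟨r, ⟨hr1, hr2⟩, hrs⟩ := Group.mem_conjugatesOfSet_iff.1 hs
        obtain ⟨c, rfl⟩ := isConj_iff.1 hrs
        have h1 : orderOf (c * r * c⁻¹) = 7 := by
          rw [← MulAut.conj_apply, MulEquiv.orderOf_eq]; exact hr1
        exact ⟨⟨_, Subgroup.Normal.conj_mem inferInstance r hr2 c⟩, hall _ h1 _, rfl⟩
      rw [heq] at hle
      obtain ⟨g', hg', he⟩ := hle g.2
      rwa [show g = g' from Subtype.ext he.symm]
    · -- `M` is solvable
      have hMd : Nat.card M ∣ 1728 := by
        refine Nat.Coprime.dvd_of_dvd_mul_right (n := 7) ?_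
          (((Subgroup.card_subgroup_dvd_card M).trans hNd).trans (by norm_num))
        exact ((Nat.Prime.coprime_iff_not_dvd (by norm_num)).2 hM7).symm
      obtain ⟨a, b, hab⟩ : ∃ a b, Nat.card M = 2 ^ a * 3 ^ b := by
        obtain ⟨a, b, ha, hb, hab⟩ := Nat.dvd_mul.1 (show Nat.card M ∣ 2 ^ 6 * 3 ^ 3 by simpa using hMd)
        obtain ⟨i, -, rfl⟩ := (Nat.dvd_prime_pow Nat.prime_two).1 ha
        obtain ⟨j, -, rfl⟩ := (Nat.dvd_prime_pow Nat.prime_three).1 hb
        exact ⟨i, j, hab.symm⟩
      haveI := CharTheory.isSolvable_of_card_two_primes Nat.prime_two Nat.prime_three hab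
      haveI : Nontrivial M := (Subgroup.nontrivial_iff_ne_bot M).2 hMb
      obtain ⟨p, Q, hp, hQn, hQb, hQp⟩ := Glauberman.exists_normal_pgroup M
      haveI : Fact p.Prime := ⟨hp⟩
      obtain ⟨T⟩ : Nonempty (Sylow p M) := inferInstance
      set R := Subgroup.normalClosure ((Q.map M.subtype : Subgroup N) : Set N) with hR
      have hRp : IsPGroup p R := (T.2.map M.subtype).to_le (normalClosure_le hQp T)
      obtain ⟨T'⟩ : Nonempty (Sylow p N) := inferInstance
      have hle := normalClosure_le (Q := R) hRp T'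
      have heq := hmin (Subgroup.normalClosure ((R.map N.subtype : Subgroup G) : Set G)) inferInstance
        (Subgroup.normalClosure_le_normal (Subgroup.map_subtype_le R)) fun hb => by
          have h1 : R.map N.subtype = ⊥ := le_bot_iff.1 (hb ▸ Subgroup.subset_normalClosure)
          rw [Subgroup.map_eq_bot_iff_of_injective _ N.subtype_injective] at h1
          have h2 : Q.map M.subtype = ⊥ := le_bot_iff.1 (h1 ▸ Subgroup.subset_normalClosure)
          exact hQb ((Subgroup.map_eq_bot_iff_of_injective _ M.subtype_injective).1 h2)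
      rw [heq] at hle
      obtain ⟨j, hj⟩ := IsPGroup.iff_card.1 ((T'.2.map N.subtype).to_le hle)
      have hp7 : p = 7 := ((Nat.prime_dvd_prime_iff_eq (by norm_num) hp).1
        ((show Nat.Prime 7 by norm_num).dvd_of_dvd_pow (hj ▸ h7))).symm
      have := (hj ▸ hbig : 2016 ≤ p ^ j)
      have hjd : p ^ j ∣ 12096 := hj ▸ hNd
      subst hp7
      have hj1 : j ≤ 1 := by
        by_contra hj1
        exact absurd ((pow_dvd_pow 7 (show 2 ≤ j by omega)).trans hjd) (by norm_num)
      interval_cases j <;> simp at this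
  refine ⟨hsimple, ?_⟩
  have hnc : ¬ IsMulCommutative N := fun hcomm => by
    letI : CommGroup N := { (inferInstance : Group N) with mul_comm := hcomm.1.1 }
    have hp := IsSimpleGroup.prime_card (α := N)
    rcases prime_dvd_12096 hp dvd_rfl hNd with h | h | h <;> omega
  have hN9 : ∀ g : N, orderOf g ≠ 9 := fun g => by rw [← Subgroup.orderOf_coe]; exact h9 _
  have hidx' : N.index = 1 ∨ N.index = 2 ∨ N.index = 3 ∨ N.index = 6 := by
    have hle := Nat.le_of_dvd (by norm_num) hidx
    revert hidx hle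
    generalize N.index = i
    intro hidx hle
    interval_cases i <;> omega
  rcases hidx' with h | h | h | h <;> rw [h] at hprod
  · exfalso
    haveI : Fintype N := Fintype.ofFinite N
    exact false_12096 (G := N) (by omega) (fun g => by rw [← Subgroup.orderOf_coe]; exact h14 _)
      (fun g => by rw [← Subgroup.orderOf_coe]; exact h21 _)
  · omega
  · exfalso
    have h4032 : Nat.card N = 4032 := by omega
    have := Cfsg.Agent.S0983.result (G := N) hnc (by omega) (by omega)
    omega
  · exfalso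
    have := SmallOrders.mem_low (G := N) hnc (by omega) (by omega)
    have h2016 : Nat.card N = 2016 := by omega
    rw [h2016] at this
    simp [SmallOrders.exceptions_low] at this

/-- A group of order `12096` without elements of orders `9`, `14`, `21` is the automorphism group of a
simple group of order `6048`. -/
theorem exists_mulAut (hN : Nat.card G = 12096) (h9 : ∀ g : G, orderOf g ≠ 9) (h14 : ∀ g : G, orderOf g ≠ 14)
    (h21 : ∀ g : G, orderOf g ≠ 21) : ∃ N : Subgroup G, IsSimpleGroup N ∧ Nat.card N = 6048 ∧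
      (∀ g : N, orderOf g ≠ 9) ∧ Nonempty (G ≃* MulAut N) := by
  classical
  haveI : Fact (Nat.Prime 7) := ⟨by norm_num⟩
  haveI : Nontrivial G := Finite.one_lt_card_iff_nontrivial.1 (by rw [hN]; norm_num)
  obtain ⟨N, hNn, hne, hmin⟩ := exists_minimal_normal (G := G)
  obtain ⟨hs, hcard⟩ := minimal_normal hN h9 h14 h21 hne hmin
  haveI := hs
  have hN9 : ∀ g : N, orderOf g ≠ 9 := fun g => by rw [← Subgroup.orderOf_coe]; exact h9 _
  refine ⟨N, hs, hcard, hN9, ?_⟩
  let φ : G →* MulAut N := MulAut.conjNormal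
  have hinj : Function.Injective φ := by
    rw [← MonoidHom.ker_eq_bot_iff]
    obtain ⟨x, hx⟩ := exists_prime_orderOf_dvd_card' (G := N) 7 (by rw [hcard]; norm_num)
    have hox : orderOf (x : G) = 7 := by rw [Subgroup.orderOf_coe, hx]
    by_contra hk
    have hle : N ≤ φ.ker := by
      have h7 := seven_dvd_normal hN h14 h21 hk
      have hc : Nat.card φ.ker ∣ 7 := centralizer_seven hN h14 h21 hox fun y hy => by
        have h1 : φ y = 1 := hy
        have h2 : y * (x : G) * y⁻¹ = x := congrArg Subtype.val (MulEquiv.congr_fun h1 x)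
        exact (mul_inv_eq_iff_eq_mul.1 h2).symm
      by_cases hd : φ.ker ⊓ N = ⊥
      · exfalso
        have h1 : Nat.card φ.ker ∣ N.index := by
          have := Subgroup.relIndex_dvd_index_of_normal N φ.ker
          rwa [← Subgroup.inf_relIndex_right, inf_comm, hd, Subgroup.relIndex_bot_left] at this
        have h2 := N.card_mul_index
        rw [hN, hcard] at h2
        have h3 : N.index = 2 := by omega
        exact absurd ((h7.trans h1).trans (dvd_of_eq h3)) (by norm_num)
      · exact inf_eq_right.1 (hmin _ inferInstance inf_le_right hd)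
    refine absurd ((centralizer_seven hN h14 h21 hox (C := N) fun y hy => ?_)) (by rw [hcard]; norm_num)
    have h1 : φ y = 1 := hle hy
    have h2 : y * (x : G) * y⁻¹ = x := congrArg Subtype.val (MulEquiv.congr_fun h1 x)
    exact (mul_inv_eq_iff_eq_mul.1 h2).symm
  obtain ⟨C⟩ := exists_coord hcard hN9
  haveI : Finite (MulAut N) := Finite.of_injective (fun α => (α : N → N)) DFunLike.coe_injective
  have hle := C.card_mulAut_le
  have heq : Nat.card G = Nat.card (MulAut N) := by
    have := Nat.card_le_card_of_injective φ hinj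
    omega
  exact ⟨MulEquiv.ofBijective φ ((Nat.bijective_iff_injective_and_card _).2 ⟨hinj, heq⟩)⟩

/-- Groups of order `12096` without elements of orders `9`, `14`, `21` are isomorphic. -/
theorem nonempty_mulEquiv {H : Type v} [Group H] [Finite H]
    (hG : Nat.card G = 12096) (hG9 : ∀ g : G, orderOf g ≠ 9) (hG14 : ∀ g : G, orderOf g ≠ 14)
    (hG21 : ∀ g : G, orderOf g ≠ 21) (hH : Nat.card H = 12096) (hH9 : ∀ g : H, orderOf g ≠ 9)
    (hH14 : ∀ g : H, orderOf g ≠ 14) (hH21 : ∀ g : H, orderOf g ≠ 21) : Nonempty (G ≃* H) := by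
  obtain ⟨N, hNs, hNc, hN9, ⟨e⟩⟩ := exists_mulAut hG hG9 hG14 hG21
  obtain ⟨M, hMs, hMc, hM9, ⟨f⟩⟩ := exists_mulAut hH hH9 hH14 hH21
  obtain ⟨i⟩ := unique6048 hNc hMc hN9 hM9
  exact ⟨e.trans ((MulAut.congr i).trans f.symm)⟩

end CfsgLib.U33Recog
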