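import Cfsg.Agent.Lib.SmallOrders.ClassEquation

/-!
# Searches for the order `12096`
-/

namespace CfsgLib.U33Recog

open Cfsg CfsgLib.SmallOrders

set_option autoImplicit false

/-- The congruence modulo four at an involution. -/
def detOk (a u : ℤ) : Bool := decide (((if a < 0 then -u else u) - (a.natAbs : ℤ)) % 4 = 0)

/-- The values at an involution inverting a subgroup of order seven. -/
def rngI (a : ℤ) : List ℤ := (rngT 7 a).filter (detOk a)

/-- The values at an involution with centraliser of order `c`. -/
def rngC (c : ℕ) (a : ℤ) : List ℤ :=
  (rngZ a).filter fun u => detOk a u && decide (((12096 / c : ℕ) : ℤ) * u % a = 0) &&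
    decide (u * u ≤ (c : ℤ))

/-- `1728` times the sum in the class equation. -/
def intSum (l : List (ℤ × ℤ)) : ℤ :=
  1728 + (l.map fun x => x.2 * x.2 * (1728 / x.1)).sum -
    (1 + (l.map Prod.snd).sum) * (1 + (l.map Prod.snd).sum) * (1728 / (1 + (l.map Prod.fst).sum))

/-- The sum of the squares of the values. -/
def normSum (l : List (ℤ × ℤ)) : ℤ :=
  1 + (l.map fun x => x.2 * x.2).sum + (1 + (l.map Prod.snd).sum) * (1 + (l.map Prod.snd).sum)

/-- The centraliser orders containing a Sylow `2`-subgroup. -/
def bigCents : List ℕ := [64, 192, 576, 1728]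

/-- The centraliser orders prime to seven. -/
def invCents : List ℕ := involCents 7 12096

theorem invCents_ok : invCents.all (fun c => !decide (c % 64 = 0) || bigCents.contains c) = true := by
  decide +kernel

/-- Some values at an involution inverting the subgroup of order seven. -/
def hasT (as : List ℤ) : Bool :=
  uSearch rngI (fun l => invCents.any fun c =>
    decide (intSum l = ((c * c : ℕ) : ℤ)) && decide (normSum l ≤ (c : ℤ))) as []

/-- Such values with a centraliser containing a Sylow `2`-subgroup. -/
def hasBigT (as : List ℤ) : Bool :=
  uSearch rngI (fun l => bigCents.any fun c =>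
    decide (intSum l = ((c * c : ℕ) : ℤ)) && decide (normSum l ≤ (c : ℤ))) as []

/-- Values at a second involution whose centraliser contains a Sylow `2`-subgroup. -/
def hasZ (as : List ℤ) : Bool :=
  bigCents.any fun c => uSearch (rngC c) (fun l => decide (intSum l = 0) && decide (normSum l ≤ (c : ℤ))) as []

/-- The candidates in increasing order. -/
def sortedDegs : List (List ℤ) :=
  let C : List ℤ := [-48, -27, -6, 8, 36, 64]
  (C.flatMap fun a => (C.filter fun b => decide (a ≤ b)).flatMap fun b =>
    (C.filter fun x => decide (b ≤ x)).flatMap fun c => (C.filter fun x => decide (c ≤ x)).flatMap fun d =>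
      (C.filter fun x => decide (d ≤ x)).map fun e => [a, b, c, d, e]).filter
    fun as => degOk 7 1728 (7 * 1728) 2 6 as

theorem cands_eq : (cands 7 1728 (7 * 1728) 2 1).all (fun a =>
    ([-48, -27, -6, 8, 36, 64] : List ℤ).contains a) = true := by
  decide +kernel

theorem sortedDegs_dvd : sortedDegs.all (fun as => as.all (fun a => decide (1728 % a = 0)) &&
    decide (1728 % (1 + as.sum) = 0) && decide (1 + as.sum ≠ 0)) = true := by
  decide +kernel

theorem search_12096 : sortedDegs.all (fun as => !hasT as || (!hasBigT as && !hasZ as)) = true := by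
  decide +kernel

theorem pairs_12096 : (pairs 7 1728).all (fun ne => !decide (ne.1 * ne.2 = 1728) || ne == (288, 6)) = true := by
  decide +kernel

end CfsgLib.U33Recog
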