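import Cfsg.Agent.Lib.U33Recog.Three

/-!
# The Sylow `3`-subgroups of a simple group of order `6048`: trivial intersection
-/

namespace CfsgLib.U33Recog

open Cfsg CfsgLib.CharTheory CfsgLib.Blocks CfsgLib.SmallOrders
open scoped ComplexConjugate Pointwise

set_option autoImplicit false
set_option linter.unusedVariables false
set_option linter.style.haveILetI false
set_option linter.unusedSectionVars false
set_option maxHeartbeats 800000

universe u

variable {G : Type u} [Group G] [Finite G]

/-- The centre of a Sylow subgroup, in the group. -/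
def ctr (Q : Sylow 3 G) : Subgroup G := (Subgroup.center Q).map (Q : Subgroup G).subtype

theorem ctr_le (Q : Sylow 3 G) : ctr Q ≤ (Q : Subgroup G) := Subgroup.map_subtype_le _

theorem mem_ctr {Q : Sylow 3 G} {q : G} :
    q ∈ ctr Q ↔ q ∈ (Q : Subgroup G) ∧ ∀ r ∈ (Q : Subgroup G), r * q = q * r := by
  constructor
  · rintro ⟨⟨x, hx⟩, hc, rfl⟩
    exact ⟨hx, fun r hr => congrArg Subtype.val (Subgroup.mem_center_iff.1 hc ⟨r, hr⟩)⟩
  · rintro ⟨hq, hc⟩
    exact ⟨⟨q, hq⟩, Subgroup.mem_center_iff.2 fun r => Subtype.ext (hc r r.2), rfl⟩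

/-- The facts about the Sylow subgroups. -/
structure SylowFacts (G : Type u) [Group G] [Finite G] : Prop where
  card_ctr : ∀ Q : Sylow 3 G, Nat.card (ctr Q) = 3
  cent_ctr : ∀ (Q : Sylow 3 G), ∀ q ∈ ctr Q, q ≠ 1 →
    Nat.card (Subgroup.centralizer ({q} : Set G)) = 108
  cent_out : ∀ (Q : Sylow 3 G), ∀ q ∈ (Q : Subgroup G), q ∉ ctr Q →
    Nat.card (Subgroup.centralizer ({q} : Set G)) = 9
  ti : ∀ Q R : Sylow 3 G, Q ≠ R → (Q : Subgroup G) ⊓ (R : Subgroup G) = ⊥
  card_sylow : Nat.card (Sylow 3 G) = 28

variable [IsSimpleGroup G]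

/-- The centralisers of the elements of a Sylow subgroup. -/
theorem sylow_cents (hN : Nat.card G = 6048) (h9 : ∀ x : G, orderOf x ≠ 9) (Q : Sylow 3 G) :
    Nat.card (ctr Q) = 3 ∧
      (∀ q ∈ ctr Q, q ≠ 1 → Nat.card (Subgroup.centralizer ({q} : Set G)) = 108) ∧
      ∀ q ∈ (Q : Subgroup G), q ∉ ctr Q → Nat.card (Subgroup.centralizer ({q} : Set G)) = 9 := by
  classical
  haveI : Fintype G := Fintype.ofFinite G
  haveI : Fact (Nat.Prime 3) := ⟨Nat.prime_three⟩
  obtain ⟨D⟩ := exists_charData hN h9
  have hQ := card_sylow_three hN Q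
  have hcl : ∀ q ∈ (Q : Subgroup G), q ≠ 1 →
      (Nat.card (Subgroup.centralizer ({q} : Set G)) = 9 ∧ (D.a : G → ℂ) q = 0) ∨
      (Nat.card (Subgroup.centralizer ({q} : Set G)) = 108 ∧ (D.a : G → ℂ) q = -3) :=
    fun q hq hq1 => D.three_class hN (order_three hQ h9 hq hq1)
  have hcentral : ∀ q ∈ ctr Q, q ≠ 1 → Nat.card (Subgroup.centralizer ({q} : Set G)) = 108 := by
    intro q hq hq1
    obtain ⟨hqQ, hc⟩ := mem_ctr.1 hq
    rcases hcl q hqQ hq1 with ⟨h, -⟩ | ⟨h, -⟩
    · exfalso
      have hle : (Q : Subgroup G) ≤ Subgroup.centralizer ({q} : Set G) := fun r hr =>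
        Subgroup.mem_centralizer_singleton_iff.2 (hc r hr)
      have := Subgroup.card_le_of_le hle
      rw [h, show Nat.card (Q : Subgroup G) = 27 from hQ] at this
      omega
    · exact h
  haveI : Fintype (Q : Subgroup G) := Fintype.ofFinite _
  set A : Finset (Q : Subgroup G) := Finset.univ.filter fun q =>
    q ≠ 1 ∧ Nat.card (Subgroup.centralizer ({(q : G)} : Set G)) = 108 with hA
  obtain ⟨m, hm⟩ := classInner_char_nat
    (isCharacter_restrict (isCharacter_of_irr D.a.2) (Q : Subgroup G)) (isCharacter_one (G := (Q : Subgroup G)))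
  have hval : ∀ q : (Q : Subgroup G), (D.a : G → ℂ) (q : G) =
      (if q = 1 then (6 : ℂ) else 0) + (if q ∈ A then (-3 : ℂ) else 0) := by
    intro q
    by_cases h1 : q = 1
    · subst h1
      simp [hA, ← irr_charDegree_cast, D.deg_a]
    · rcases hcl q q.2 (fun h => h1 (Subtype.ext h)) with ⟨hc, hv⟩ | ⟨hc, hv⟩
      · simp [hA, h1, hc, hv, -Nat.card_eq_fintype_card]
      · simp [hA, h1, hc, hv, -Nat.card_eq_fintype_card]
  rw [classInner, show Nat.card (Q : Subgroup G) = 27 from hQ] at hm
  simp only [map_one, mul_one, hval] at hm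
  rw [Finset.sum_add_distrib, Finset.sum_ite_eq', if_pos (Finset.mem_univ _), ← Finset.sum_filter,
    Finset.filter_univ_mem, Finset.sum_const, nsmul_eq_mul] at hm
  have hA2 : A.card = 2 := by
    have : ((27 * m + 3 * A.card : ℕ) : ℂ) = ((6 : ℕ) : ℂ) := by
      push_cast at hm ⊢; linear_combination -(27 : ℂ) * hm
    have h0 := Nat.cast_inj.1 this
    omega
  set Z : Finset (Q : Subgroup G) := Finset.univ.filter fun q => q ≠ 1 ∧ (q : G) ∈ ctr Q with hZ
  have hZA : Z ⊆ A := fun q hq => by
    simp only [hZ, hA, Finset.mem_filter, Finset.mem_univ, true_and] at hq ⊢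
    exact ⟨hq.1, hcentral q hq.2 fun h => hq.1 (Subtype.ext h)⟩
  obtain ⟨k, hk⟩ : ∃ k, Nat.card (ctr Q) = 3 ^ k :=
    (Q.2.to_le (ctr_le Q)).exists_card_eq
  have hk0 : k ≠ 0 := by
    rintro rfl
    haveI : Nontrivial Q := Finite.one_lt_card_iff_nontrivial.1 (by rw [hQ]; norm_num)
    haveI := Q.2.center_nontrivial
    rw [ctr, Subgroup.card_map_of_injective Subtype.coe_injective, pow_zero] at hk
    exact (Finite.one_lt_card_iff_nontrivial.2 (inferInstance : Nontrivial (Subgroup.center Q))).ne' hk
  have hZc : Z.card + 1 = Nat.card (ctr Q) := by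
    have : (insert (1 : (Q : Subgroup G)) Z) = Finset.univ.filter fun q : (Q : Subgroup G) => (q : G) ∈ ctr Q := by
      ext q
      by_cases h1 : q = 1
      · subst h1; simp [Subgroup.one_mem]
      · simp [hZ, h1]
    rw [← Finset.card_insert_of_notMem (a := (1 : (Q : Subgroup G))) (by simp [hZ]), this, ← Fintype.card_subtype,
      ← Nat.card_eq_fintype_card]
    exact Nat.card_congr ⟨fun q => ⟨(q.1 : G), q.2⟩, fun q => ⟨⟨q.1, ctr_le Q q.2⟩, q.2⟩,
      fun _ => rfl, fun _ => rfl⟩
  have hle := Finset.card_le_card hZA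
  have hk1 : k = 1 := by
    by_contra hne
    have : 3 ^ 2 ≤ 3 ^ k := Nat.pow_le_pow_right (by norm_num) (by omega)
    omega
  have hc3 : Nat.card (ctr Q) = 3 := by rw [hk, hk1, pow_one]
  have hEq : Z = A := Finset.eq_of_subset_of_card_le hZA (by omega)
  refine ⟨hc3, hcentral, fun q hq hqc => ?_⟩
  rcases hcl q hq (fun h => hqc (h ▸ Subgroup.one_mem _)) with ⟨h, -⟩ | ⟨h, -⟩
  · exact h
  · exfalso
    have hmem : (⟨q, hq⟩ : (Q : Subgroup G)) ∈ A := by
      simp only [hA, Finset.mem_filter, Finset.mem_univ, true_and]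
      exact ⟨fun e => hqc (by rw [show q = 1 from congrArg Subtype.val e]; exact Subgroup.one_mem _), h⟩
    rw [← hEq] at hmem
    simp only [hZ, Finset.mem_filter] at hmem
    exact hqc hmem.2.2

/-- The Sylow `3`-subgroups meet trivially and are `28` in number. -/
theorem sylowFacts (hN : Nat.card G = 6048) (h9 : ∀ x : G, orderOf x ≠ 9) : SylowFacts G := by
  classical
  haveI : Fintype G := Fintype.ofFinite G
  haveI : Fact (Nat.Prime 3) := ⟨Nat.prime_three⟩
  have hC := fun Q : Sylow 3 G => (sylow_cents hN h9 Q).1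
  have hA := fun Q : Sylow 3 G => (sylow_cents hN h9 Q).2.1
  have hB := fun Q : Sylow 3 G => (sylow_cents hN h9 Q).2.2
  -- a common central element forces equality
  have hcommon : ∀ Q R : Sylow 3 G, ∀ z : G, z ≠ 1 → z ∈ ctr Q → z ∈ ctr R → Q = R := by
    intro Q R z hz1 hzQ hzR
    by_contra hne
    set C := Subgroup.centralizer ({z} : Set G) with hCdef
    have hQC : (Q : Subgroup G) ≤ C := fun r hr =>
      Subgroup.mem_centralizer_singleton_iff.2 ((mem_ctr.1 hzQ).2 r hr)
    have hRC : (R : Subgroup G) ≤ C := fun r hr =>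
      Subgroup.mem_centralizer_singleton_iff.2 ((mem_ctr.1 hzR).2 r hr)
    have hC108 : Nat.card C = 108 := hA Q z hzQ hz1
    set E := (Q : Subgroup G) ⊓ (R : Subgroup G) with hE
    have hE9 : Nat.card E = 9 := by
      obtain ⟨k, hk⟩ := (Q.2.to_le (inf_le_left : E ≤ _)).exists_card_eq
      have hEd : Nat.card E ∣ 27 := by
        rw [← card_sylow_three hN Q]; exact Subgroup.card_dvd_of_le inf_le_left
      have hk3 : k ≤ 3 := (Nat.pow_dvd_pow_iff_le_right (by norm_num : 1 < 3)).1
        (hk ▸ hEd : 3 ^ k ∣ 3 ^ 3)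
      have hne27 : k ≠ 3 := by
        rintro rfl
        refine hne (Sylow.ext ?_)
        have h1 : E = (Q : Subgroup G) := Subgroup.eq_of_le_of_card_ge inf_le_left (by
          rw [hk, show Nat.card (Q : Subgroup G) = 27 from card_sylow_three hN Q]; norm_num)
        exact Subgroup.eq_of_le_of_card_ge (h1 ▸ inf_le_right) (by
          rw [show Nat.card (Q : Subgroup G) = 27 from card_sylow_three hN Q,
            show Nat.card (R : Subgroup G) = 27 from card_sylow_three hN R])
      have h4 : (R : Subgroup G).relIndex C = 4 := by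
        have := Subgroup.card_mul_index ((R : Subgroup G).subgroupOf C)
        rw [Nat.card_congr (Subgroup.subgroupOfEquivOfLe hRC).toEquiv,
          show Nat.card (R : Subgroup G) = 27 from card_sylow_three hN R, hC108, ← Subgroup.relIndex] at this
        omega
      have h5 : (R : Subgroup G).relIndex (Q : Subgroup G) ≤ 4 :=
        h4 ▸ Subgroup.relIndex_le_of_le_right hQC (by omega)
      have h6 := Subgroup.card_mul_index ((R : Subgroup G).subgroupOf (Q : Subgroup G))
      rw [show (R : Subgroup G).subgroupOf (Q : Subgroup G) = E.subgroupOf (Q : Subgroup G) by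
          rw [hE, inf_comm, Subgroup.inf_subgroupOf_right],
        Nat.card_congr (Subgroup.subgroupOfEquivOfLe (inf_le_left : E ≤ _)).toEquiv, hk] at h6
      rw [show (E.subgroupOf (Q : Subgroup G)).index = (R : Subgroup G).relIndex (Q : Subgroup G) by
          rw [hE, inf_comm, Subgroup.inf_subgroupOf_right]; rfl, show Nat.card (Q : Subgroup G) = 27 from card_sylow_three hN Q] at h6
      rw [hk]
      interval_cases k <;> omega
    have hnorm : ∀ S : Sylow 3 G, E ≤ (S : Subgroup G) →
        (S : Subgroup G) ≤ Subgroup.normalizer (E : Set G) := by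
      intro S hES
      haveI : (E.subgroupOf (S : Subgroup G)).Normal := by
        refine Subgroup.normal_of_index_eq_minFac_card ?_
        have := Subgroup.card_mul_index (E.subgroupOf (S : Subgroup G))
        rw [Nat.card_congr (Subgroup.subgroupOfEquivOfLe hES).toEquiv, hE9,
          show Nat.card (S : Subgroup G) = 27 from card_sylow_three hN S] at this
        rw [show Nat.card (S : Subgroup G) = 27 from card_sylow_three hN S, show Nat.minFac 27 = 3 by norm_num]
        omega
      exact Subgroup.le_normalizer_of_normal_subgroupOf hES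
    set K := C ⊓ Subgroup.normalizer (E : Set G) with hK
    have hQK : (Q : Subgroup G) ≤ K := le_inf hQC (hnorm Q inf_le_left)
    have hRK : (R : Subgroup G) ≤ K := le_inf hRC (hnorm R inf_le_right)
    have hKC : K = C := by
      refine Subgroup.eq_of_le_of_card_ge inf_le_left ?_
      have hd := Subgroup.card_dvd_of_le (inf_le_left : K ≤ C)
      have h27 := Subgroup.card_dvd_of_le hQK
      rw [show Nat.card (Q : Subgroup G) = 27 from card_sylow_three hN Q] at h27
      rw [hC108] at hd ⊢
      by_contra hlt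
      have hcases : Nat.card K = 27 ∨ Nat.card K = 54 := by
        obtain ⟨t, ht⟩ := h27
        rw [ht] at hd hlt ⊢
        have hd4 : t ∣ 4 := Nat.dvd_of_mul_dvd_mul_left (by norm_num) (show 27 * t ∣ 27 * 4 from hd)
        have := Nat.le_of_dvd (by norm_num) hd4
        interval_cases t <;> omega
      haveI : ((Q : Subgroup G).subgroupOf K).Normal := by
        have hi := Subgroup.card_mul_index ((Q : Subgroup G).subgroupOf K)
        rw [Nat.card_congr (Subgroup.subgroupOfEquivOfLe hQK).toEquiv,
          show Nat.card (Q : Subgroup G) = 27 from card_sylow_three hN Q] at hi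
        rcases hcases with h | h <;> rw [h] at hi
        · rw [Subgroup.index_eq_one.1 (by omega : ((Q : Subgroup G).subgroupOf K).index = 1)]
          infer_instance
        · exact Subgroup.normal_of_index_eq_two (by omega)
      refine hne (Sylow.ext ?_)
      refine (Subgroup.eq_of_le_of_card_ge (fun r hr => ?_) (by
        rw [show Nat.card (Q : Subgroup G) = 27 from card_sylow_three hN Q,
          show Nat.card (R : Subgroup G) = 27 from card_sylow_three hN R])).symm
      have hpow : ((⟨r, hRK hr⟩ : K) : K) ^ ((Q : Subgroup G).subgroupOf K).index ∈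
          (Q : Subgroup G).subgroupOf K := Subgroup.pow_index_mem _ _
      have hi := Subgroup.card_mul_index ((Q : Subgroup G).subgroupOf K)
      rw [Nat.card_congr (Subgroup.subgroupOfEquivOfLe hQK).toEquiv,
        show Nat.card (Q : Subgroup G) = 27 from card_sylow_three hN Q] at hi
      rw [Subgroup.mem_subgroupOf] at hpow
      simp only [SubgroupClass.coe_pow] at hpow
      have h27r : r ^ 27 = 1 := by
        have := pow_card_eq_one' (x := (⟨r, hr⟩ : (R : Subgroup G)))
        rw [show Nat.card (R : Subgroup G) = 27 from card_sylow_three hN R] at this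
        exact congrArg Subtype.val this
      rcases hcases with h | h <;> rw [h] at hi
      · rwa [show ((Q : Subgroup G).subgroupOf K).index = 1 by omega, pow_one] at hpow
      · rw [show ((Q : Subgroup G).subgroupOf K).index = 2 by omega] at hpow
        have : r = (r ^ 2) ^ 14 := by
          rw [← pow_mul, show 2 * 14 = 27 + 1 by norm_num, pow_add, h27r, one_mul, pow_one]
        rw [this]
        exact pow_mem hpow _
    obtain ⟨b, hbE, hbz⟩ : ∃ b ∈ E, b ∉ ctr Q := by
      by_contra h
      push Not at h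
      have := Subgroup.card_le_of_le (show E ≤ ctr Q from h)
      rw [hE9, hC Q] at this
      omega
    have hb9 := hB Q b hbE.1 hbz
    have hCN : C ≤ Subgroup.normalizer (E : Set G) := hKC ▸ (inf_le_right : K ≤ _)
    let ι : C → E := fun g => ⟨(g : G) * b * (g : G)⁻¹,
      (Subgroup.mem_normalizer_iff.1 (hCN g.2) b).1 hbE⟩
    have hfib : ∀ e : E, (Finset.univ.filter fun g : C => ι g = e).card ≤ 9 := by
      intro e
      by_cases hex : ∃ g₀, ι g₀ = e
      · obtain ⟨g₀, hg₀⟩ := hex
        haveI : Fintype (Subgroup.centralizer ({b} : Set G)) := Fintype.ofFinite _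
        refine le_trans (Finset.card_le_card_of_injOn (t := (Finset.univ : Finset (Subgroup.centralizer ({b} : Set G))).map
          (⟨fun x => (g₀ : G) * (x : G), fun x y h => Subtype.ext (mul_left_cancel h)⟩ :
            Subgroup.centralizer ({b} : Set G) ↪ G))
          (fun g => (g : G)) (fun g hg => ?_) (fun x _ y _ h => Subtype.ext h)) ?_
        · simp only [Finset.coe_filter, Finset.mem_univ, true_and, Set.mem_setOf_eq] at hg
          have h2 := congrArg Subtype.val (hg.trans hg₀.symm)
          simp only [ι] at h2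
          refine Finset.mem_map.2 ⟨⟨(g₀ : G)⁻¹ * g, Subgroup.mem_centralizer_singleton_iff.2 ?_⟩,
            Finset.mem_univ _, mul_inv_cancel_left _ _⟩
          calc (g₀ : G)⁻¹ * g * b = (g₀ : G)⁻¹ * ((g : G) * b * (g : G)⁻¹) * g := by group
            _ = b * ((g₀ : G)⁻¹ * g) := by rw [h2]; group
        · rw [Finset.card_map, Finset.card_univ, ← Nat.card_eq_fintype_card, hb9]
      · rw [Finset.filter_false_of_mem fun g _ hg => hex ⟨g, hg⟩]; simp
    haveI : Fintype E := Fintype.ofFinite _
    have h108 := Finset.card_le_mul_card_image (f := ι) (s := (Finset.univ : Finset C)) 9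
      (fun e _ => hfib e)
    have himg := Finset.card_le_univ (Finset.image ι (Finset.univ : Finset C))
    rw [Finset.card_univ, ← Nat.card_eq_fintype_card, hC108] at h108
    rw [← Nat.card_eq_fintype_card, hE9] at himg
    omega
  have hTI : ∀ Q R : Sylow 3 G, Q ≠ R → (Q : Subgroup G) ⊓ (R : Subgroup G) = ⊥ := by
    intro Q R hne
    by_contra hbot
    obtain ⟨d, hd, hd1⟩ := (Subgroup.bot_or_exists_ne_one _).resolve_left hbot
    -- centralisers of non-central elements lie in each Sylow subgroup containing them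
    have hout : ∀ S : Sylow 3 G, d ∈ (S : Subgroup G) →
        Nat.card (Subgroup.centralizer ({d} : Set G)) = 9 →
        Subgroup.centralizer ({d} : Set G) ≤ (S : Subgroup G) ∧ ctr S ≤ Subgroup.centralizer ({d} : Set G) := by
      intro S hdS h
      have hdc : d ∉ ctr S := fun hh => by rw [hA S d hh hd1] at h; omega
      have hle : ctr S ≤ Subgroup.centralizer ({d} : Set G) := fun z hz =>
        Subgroup.mem_centralizer_singleton_iff.2 ((mem_ctr.1 hz).2 d hdS).symm
      refine ⟨?_, hle⟩
      set J := (S : Subgroup G) ⊓ Subgroup.centralizer ({d} : Set G) with hJ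
      have hJ9 : Nat.card J = 9 := by
        obtain ⟨k, hk⟩ := (S.2.to_le (inf_le_left : J ≤ _)).exists_card_eq
        have hup := Subgroup.card_le_of_le (inf_le_right : J ≤ _)
        rw [h, hk] at hup
        have hdJ : d ∈ J := ⟨hdS, Subgroup.mem_centralizer_singleton_iff.2 rfl⟩
        have hcJ : ctr S ≤ J := le_inf (ctr_le S) hle
        have hk2 : k = 2 := by
          rcases Nat.lt_or_ge k 3 with h3 | h3
          · by_contra hk2
            have h3' : Nat.card J ≤ 3 := by
              rw [hk]
              calc 3 ^ k ≤ 3 ^ 1 := Nat.pow_le_pow_right (by norm_num) (by omega)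
                _ = 3 := pow_one 3
            exact hdc ((Subgroup.eq_of_le_of_card_ge hcJ (by rw [hC S]; exact h3')) ▸ hdJ)
          · have : 3 ^ 3 ≤ 3 ^ k := Nat.pow_le_pow_right (by norm_num) h3
            omega
        rw [hk, hk2]; norm_num
      have hJeq : J = Subgroup.centralizer ({d} : Set G) :=
        Subgroup.eq_of_le_of_card_ge inf_le_right (by rw [hJ9, h])
      exact hJeq ▸ inf_le_left
    obtain ⟨D⟩ := exists_charData hN h9
    rcases D.three_class hN (order_three (card_sylow_three hN Q) h9 hd.1 hd1) with ⟨h, -⟩ | ⟨h, -⟩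
    · obtain ⟨z, hz, hz1⟩ := (Subgroup.bot_or_exists_ne_one (ctr Q)).resolve_left (fun hb => by
        have := hC Q
        rw [hb, Subgroup.card_bot] at this
        omega)
      have hzR : z ∈ ctr R := by
        by_contra hh
        have h1 := hB R z ((hout R hd.2 h).1 ((hout Q hd.1 h).2 hz)) hh
        rw [hA Q z hz hz1] at h1
        omega
      exact hne (hcommon Q R z hz1 hz hzR)
    · have hmem : ∀ S : Sylow 3 G, d ∈ (S : Subgroup G) → d ∈ ctr S := fun S hS => by
        by_contra hh
        rw [hB S d hS hh] at h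
        omega
      exact hne (hcommon Q R d hd1 (hmem Q hd.1) (hmem R hd.2))
  refine ⟨hC, hA, hB, hTI, ?_⟩
  -- counting
  obtain ⟨Q⟩ : Nonempty (Sylow 3 G) := inferInstance
  have hmem := SmallOrder.card_sylow_mem_filter Q (card_sylow_three hN Q)
    (show Nat.card G = 27 * 224 by rw [hN]) (by norm_num)
  rw [Finset.mem_filter, Nat.mem_divisors] at hmem
  have hle : Nat.card (Sylow 3 G) ≠ 1 := SmallOrder.card_sylow_ne_one Q
    (by rw [card_sylow_three hN Q]; norm_num) (by rw [card_sylow_three hN Q, hN]; norm_num)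
  have hmod : Nat.card (Sylow 3 G) % 27 = 1 := by
    haveI : Fintype (Sylow 3 G) := Fintype.ofFinite _
    haveI : Fintype Q := Fintype.ofFinite _
    have hfree : ∀ R : Sylow 3 G, R ≠ Q → MulAction.stabilizer (Q : Subgroup G) R = ⊥ := by
      intro R hR
      rw [eq_bot_iff]
      rintro ⟨q, hq⟩ hqR
      have hqN : q ∈ Subgroup.normalizer ((R : Subgroup G) : Set G) :=
        Sylow.smul_eq_iff_mem_normalizer.1 hqR
      have hqR' : q ∈ (R : Subgroup G) := by
        have hp : IsPGroup 3 (Subgroup.zpowers q) := Q.2.to_le (Subgroup.zpowers_le.2 hq)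
        have := hp.inf_normalizer_sylow R
        have hq' : q ∈ Subgroup.zpowers q ⊓ Subgroup.normalizer ((R : Subgroup G) : Set G) :=
          ⟨Subgroup.mem_zpowers q, hqN⟩
        exact (this.le hq').2
      have : q ∈ (Q : Subgroup G) ⊓ (R : Subgroup G) := ⟨hq, hqR'⟩
      rw [hTI Q R hR.symm, Subgroup.mem_bot] at this
      exact Subtype.ext this
    have hdvd : 27 ∣ (Finset.univ.erase Q).card := by
      have e : ∀ R ∈ Finset.univ.erase Q,
          (Finset.univ.image fun q : (Q : Subgroup G) => q • R) ⊆ Finset.univ.erase Q ∧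
          (Finset.univ.image fun q : (Q : Subgroup G) => q • R).card = 27 := by
        intro R hR
        refine ⟨fun S hS => ?_, ?_⟩
        · obtain ⟨q, -, rfl⟩ := Finset.mem_image.1 hS
          refine Finset.mem_erase.2 ⟨fun h => (Finset.mem_erase.1 hR).1 ?_, Finset.mem_univ _⟩
          rw [eq_inv_smul_iff.2 h]
          exact Sylow.smul_eq_iff_mem_normalizer.2 (Subgroup.le_normalizer (inv_mem q.2))
        · rw [Finset.card_image_of_injective, Finset.card_univ, ← Nat.card_eq_fintype_card]
          · exact card_sylow_three hN Q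
          · intro x y hxy
            have hx : y⁻¹ * x ∈ MulAction.stabilizer (Q : Subgroup G) R := by
              rw [MulAction.mem_stabilizer_iff, mul_smul]
              simp only at hxy
              rw [hxy, inv_smul_smul]
            rw [hfree R (Finset.mem_erase.1 hR).1, Subgroup.mem_bot] at hx
            exact (inv_mul_eq_one.1 hx).symm
      let r : Setoid (Sylow 3 G) := MulAction.orbitRel (Q : Subgroup G) (Sylow 3 G)
      rw [Finset.card_eq_sum_card_fiberwise (f := Quotient.mk r) (t := Finset.univ)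
        (fun _ _ => Finset.mem_univ _)]
      refine Finset.dvd_sum fun o _ => ?_
      by_cases hex : ∃ R ∈ Finset.univ.erase Q, Quotient.mk r R = o
      · obtain ⟨R, hR, rfl⟩ := hex
        have heq : (Finset.univ.erase Q).filter (fun S => Quotient.mk r S = Quotient.mk r R) =
            Finset.univ.image fun q : (Q : Subgroup G) => q • R := by
          ext S
          constructor
          · intro hS
            obtain ⟨q, hq⟩ := (Quotient.exact (Finset.mem_filter.1 hS).2 : r S R)
            exact Finset.mem_image.2 ⟨q, Finset.mem_univ _, hq⟩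
          · intro hS
            refine Finset.mem_filter.2 ⟨(e R hR).1 hS, ?_⟩
            obtain ⟨q, -, rfl⟩ := Finset.mem_image.1 hS
            exact Quotient.sound (MulAction.mem_orbit R q)
        rw [heq, (e R hR).2]
      · rw [Finset.filter_false_of_mem fun S hS h => hex ⟨S, hS, h⟩]; simp
    rw [Finset.card_erase_of_mem (Finset.mem_univ _), Finset.card_univ, ← Nat.card_eq_fintype_card] at hdvd
    have : 0 < Nat.card (Sylow 3 G) := Nat.card_pos
    omega
  have hdiv := hmem.1.1
  have hlt := Nat.le_of_dvd (by norm_num) hdiv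
  have hc : Nat.card (Sylow 3 G) = 28 ∨ Nat.card (Sylow 3 G) = 55 ∨ Nat.card (Sylow 3 G) = 82 ∨
      Nat.card (Sylow 3 G) = 109 ∨ Nat.card (Sylow 3 G) = 136 ∨ Nat.card (Sylow 3 G) = 163 ∨
      Nat.card (Sylow 3 G) = 190 ∨ Nat.card (Sylow 3 G) = 217 := by omega
  rcases hc with h | h | h | h | h | h | h | h <;> rw [h] at hdiv <;> first | exact h | norm_num at hdiv

end CfsgLib.U33Recog
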