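import Cfsg.Agent.Lib.U33Recog.Values

/-!
# The two kinds of elements of order `3` of a simple group of order `6048`
-/

namespace CfsgLib.U33Recog

open Cfsg CfsgLib.CharTheory CfsgLib.Blocks CfsgLib.SmallOrders
open scoped ComplexConjugate

set_option autoImplicit false
set_option linter.unusedVariables false
set_option linter.style.haveILetI false
set_option linter.unusedSectionVars false
set_option maxHeartbeats 800000

universe u

variable {G : Type u} [Group G] [Fintype G]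

theorem card_sylow_three (hN : Nat.card G = 6048) (Q : Sylow 3 G) : Nat.card Q = 27 := by
  haveI : Fact (Nat.Prime 3) := ⟨Nat.prime_three⟩
  have := SmallOrder.card_sylow_eq (k := 3) Q (by rw [hN]; norm_num) (by rw [hN]; norm_num)
  simpa using this

/-- The centraliser of an element of order three has order divisible by nine. -/
theorem nine_dvd (hN : Nat.card G = 6048) {g : G} (hg : orderOf g = 3) :
    9 ∣ Nat.card (Subgroup.centralizer ({g} : Set G)) := by
  classical
  haveI : Fact (Nat.Prime 3) := ⟨Nat.prime_three⟩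
  obtain ⟨Q, hQ⟩ := (IsPGroup.of_card (n := 1) (by rw [Nat.card_zpowers, hg, pow_one]) :
    IsPGroup 3 (Subgroup.zpowers g)).exists_le_sylow
  set C := Subgroup.centralizer ({g} : Set G) with hC
  set D := (Q : Subgroup G) ⊓ C with hD
  obtain ⟨k, hk⟩ := (Q.2.to_le (inf_le_left : D ≤ _)).exists_card_eq
  refine Dvd.dvd.trans ?_ (Subgroup.card_dvd_of_le (inf_le_right : D ≤ C))
  rw [hk]
  have hgD : g ∈ D := ⟨hQ (Subgroup.mem_zpowers g), Subgroup.mem_centralizer_singleton_iff.2 rfl⟩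
  suffices h : 2 ≤ k from pow_dvd_pow 3 h
  by_contra hlt
  have h3 : Nat.card D ≤ 3 := by
    rw [hk]
    calc 3 ^ k ≤ 3 ^ 1 := Nat.pow_le_pow_right (by norm_num) (by omega)
      _ = 3 := pow_one 3
  have hDg : D = Subgroup.zpowers g :=
    (Subgroup.eq_of_le_of_card_ge (Subgroup.zpowers_le.2 hgD) (by rwa [Nat.card_zpowers, hg])).symm
  haveI : Nontrivial Q := Finite.one_lt_card_iff_nontrivial.1 (by rw [card_sylow_three hN]; norm_num)
  haveI : Nontrivial (Subgroup.center Q) := Q.2.center_nontrivial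
  obtain ⟨z, hz⟩ := exists_ne (1 : Subgroup.center Q)
  have hzD : ((z : Q) : G) ∈ D := ⟨(z : Q).2, Subgroup.mem_centralizer_singleton_iff.2
    (congrArg Subtype.val (Subgroup.mem_center_iff.1 z.2 ⟨g, hgD.1⟩)).symm⟩
  rw [hDg] at hzD
  have hzg : Subgroup.zpowers ((z : Q) : G) = Subgroup.zpowers g := by
    refine Subgroup.eq_of_le_of_card_ge (Subgroup.zpowers_le.2 hzD) ?_
    rw [Nat.card_zpowers g, hg]
    have hd : orderOf ((z : Q) : G) ∣ 3 := by
      have h := Subgroup.orderOf_dvd_natCard _ hzD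
      rwa [Nat.card_zpowers, hg] at h
    rcases (Nat.dvd_prime Nat.prime_three).1 hd with h | h
    · exact absurd (Subtype.ext (Subtype.ext (orderOf_eq_one_iff.1 h))) hz
    · rw [Nat.card_zpowers, h]
  have hQD : (Q : Subgroup G) ≤ D := fun q hq => ⟨hq, by
    obtain ⟨j, hj⟩ : g ∈ Subgroup.zpowers ((z : Q) : G) := hzg ▸ Subgroup.mem_zpowers g
    have hc : Commute q ((z : Q) : G) :=
      congrArg Subtype.val (Subgroup.mem_center_iff.1 z.2 ⟨q, hq⟩)
    show q ∈ C
    rw [hC, Subgroup.mem_centralizer_singleton_iff, ← hj]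
    exact (hc.zpow_right j).eq⟩
  have := Subgroup.card_le_of_le hQD
  rw [show Nat.card (Q : Subgroup G) = 27 from card_sylow_three hN Q] at this
  omega

theorem cent_cases_bool : (List.range 865).all (fun c => decide (864 % c ≠ 0) || decide (c % 9 ≠ 0) ||
    [9, 18, 27, 36, 54, 72, 108, 144, 216, 288, 432, 864].contains c) = true := by
  decide +kernel

variable [IsSimpleGroup G] (D : CharData G)

/-- The characters outside the principal block. -/
noncomputable def CharData.R : Finset (IrrCharacter G) := by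
  classical exact Finset.univ \ insert (oneIrr G) (insert D.a (insert D.b D.Y))

theorem CharData.sum_all {α : Type*} [AddCommMonoid α] (f : IrrCharacter G → α) :
    ∑ χ, f χ = f (oneIrr G) + f D.a + f D.b + ∑ ψ ∈ D.Y, f ψ + ∑ χ ∈ D.R, f χ := by
  classical
  rw [CharData.R, ← Finset.sum_sdiff (Finset.subset_univ (insert (oneIrr G) (insert D.a (insert D.b D.Y)))),
    Finset.sum_insert (by simp [D.one_notY, D.a_ne.symm, D.b_ne.symm]),
    Finset.sum_insert (by simp [D.a_notY, D.ab_ne]), Finset.sum_insert D.b_notY]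
  abel

theorem CharData.R_deg {χ : IrrCharacter G} (h : χ ∈ D.R) : 7 ∣ charDegree (χ : G → ℂ) := by
  classical
  simp only [CharData.R, Finset.mem_sdiff, Finset.mem_univ, true_and, Finset.mem_insert, not_or] at h
  exact D.outside χ h.1 h.2.1 h.2.2.1 h.2.2.2

/-- The multipliers of seven outside the principal block. -/
theorem CharData.sum_sq (hN : Nat.card G = 6048) :
    ∑ χ ∈ D.R, (((charDegree (χ : G → ℂ) / 7 : ℕ) : ℝ)) ^ 2 = 66 := by
  classical
  have h0 := sum_irr_degree_sq (G := G)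
  simp only [← irr_charDegree_cast] at h0
  have h : ∑ χ : IrrCharacter G, ((charDegree (χ : G → ℂ) : ℕ) : ℝ) ^ 2 = (Nat.card G : ℝ) := by
    have h' : ((∑ χ : IrrCharacter G, charDegree (χ : G → ℂ) ^ 2 : ℕ) : ℂ) = ((Nat.card G : ℕ) : ℂ) := by
      push_cast; exact h0
    exact_mod_cast Nat.cast_inj.1 h'
  rw [hN, D.sum_all, D.deg_a, D.deg_b, Finset.sum_congr (s₁ := D.Y) rfl (fun ψ hψ => by rw [D.deg_Y ψ hψ]),
    Finset.sum_const, D.cardY] at h
  have h1 : charDegree ((oneIrr G : IrrCharacter G) : G → ℂ) = 1 := by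
    have := irr_charDegree_cast (oneIrr G)
    rw [show ((oneIrr G : IrrCharacter G) : G → ℂ) 1 = 1 from rfl] at this
    exact_mod_cast this
  rw [h1] at h
  have hR : ∑ χ ∈ D.R, ((charDegree (χ : G → ℂ) : ℕ) : ℝ) ^ 2 =
      49 * ∑ χ ∈ D.R, (((charDegree (χ : G → ℂ) / 7 : ℕ) : ℝ)) ^ 2 := by
    rw [Finset.mul_sum]
    refine Finset.sum_congr rfl fun χ hχ => ?_
    obtain ⟨k, hk⟩ := D.R_deg hχ
    rw [hk, Nat.mul_div_cancel_left _ (by norm_num : 0 < 7)]
    push_cast
    ring
  rw [hR] at h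
  norm_num at h
  linarith

include D

/-- An element commuting with an element of order seven has order dividing seven. -/
theorem CharData.pow7 {g x : G} (hx : orderOf x = 7) (hgx : g * x = x * g) : g ^ 7 = 1 := by
  haveI hp : Fact (Nat.Prime 7) := ⟨by norm_num⟩
  obtain ⟨Q, hQ⟩ := (IsPGroup.of_card (n := 1) (by rw [Nat.card_zpowers, hx, pow_one]) :
    IsPGroup 7 (Subgroup.zpowers x)).exists_le_sylow
  obtain ⟨s, hs⟩ := MulAction.exists_smul_eq G Q D.P
  have hxP : s * x * s⁻¹ ∈ (D.P : Subgroup G) := by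
    rw [← hs]; exact ⟨x, hQ (Subgroup.mem_zpowers _), rfl⟩
  have hne : s * x * s⁻¹ ≠ 1 := by
    rw [Ne, conj_eq_one_iff]
    intro e
    rw [e, orderOf_one] at hx
    norm_num at hx
  have hgP : s * g * s⁻¹ ∈ (D.P : Subgroup G) := mem_of_commute D.cardP D.centP hxP hne (by
    rw [show s * g * s⁻¹ * (s * x * s⁻¹) = s * (g * x) * s⁻¹ by group,
      show s * x * s⁻¹ * (s * g * s⁻¹) = s * (x * g) * s⁻¹ by group, hgx])
  have h1 := pow_card_eq_one' (x := (⟨_, hgP⟩ : (D.P : Subgroup G)))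
  rw [show Nat.card (D.P : Subgroup G) = 7 from D.cardP] at h1
  have h2 : (MulAut.conj s g) ^ 7 = 1 := congrArg Subtype.val h1
  rwa [← map_pow, map_eq_one_iff _ (MulEquiv.injective _)] at h2

/-- The two kinds of elements of order three. -/
theorem CharData.three_class (hN : Nat.card G = 6048) {g : G} (hg : orderOf g = 3) :
    (Nat.card (Subgroup.centralizer ({g} : Set G)) = 9 ∧ (D.a : G → ℂ) g = 0) ∨
      (Nat.card (Subgroup.centralizer ({g} : Set G)) = 108 ∧ (D.a : G → ℂ) g = -3) := by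
  classical
  haveI hp : Fact (Nat.Prime 7) := ⟨by norm_num⟩
  set c := Nat.card (Subgroup.centralizer ({g} : Set G)) with hc
  have hidx : c * (Subgroup.centralizer ({g} : Set G)).index = 6048 :=
    hN ▸ Subgroup.card_mul_index _
  have hreg : ¬ 7 ∣ orderOf g := by rw [hg]; norm_num
  have h7 : ¬ 7 ∣ c := by
    intro h
    obtain ⟨x, hx⟩ := exists_prime_orderOf_dvd_card' 7 h
    have := D.pow7 (g := g) (x := (x : G)) (by rw [Subgroup.orderOf_coe, hx])
      (Subgroup.mem_centralizer_singleton_iff.1 x.2).symm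
    have := orderOf_dvd_of_pow_eq_one this
    rw [hg] at this
    omega
  have h864 : c ∣ 864 := dvd_of_dvd_mul_prime hp.out (by
    rw [show 7 * 864 = Nat.card G by rw [hN]]; exact Subgroup.card_subgroup_dvd_card _) h7
  have h9 : 9 ∣ c := nine_dvd hN hg
  have hlist : c ∈ ([9, 18, 27, 36, 54, 72, 108, 144, 216, 288, 432, 864] : List ℕ) := by
    have hlt : c < 865 := Nat.lt_succ_of_le (Nat.le_of_dvd (by norm_num) h864)
    have := List.all_eq_true.1 cent_cases_bool c (List.mem_range.2 hlt)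
    simpa [Nat.mod_eq_zero_of_dvd h864, Nat.mod_eq_zero_of_dvd h9] using this
  -- the values
  obtain ⟨va, na, hva, hna⟩ := exists_value_three D.a hg (D.real_a g)
  obtain ⟨vb, nb, hvb, hnb⟩ := exists_value_three D.b hg (D.real_b g)
  rw [D.deg_a] at hna
  rw [D.deg_b] at hnb
  have hla := norm_char_le (isCharacter_of_irr D.a.2) g
  rw [hva, ← irr_charDegree_cast, D.deg_a, Complex.norm_intCast, Complex.norm_natCast] at hla
  have hla' : |va| ≤ 6 := by exact_mod_cast hla
  have hlb := norm_char_le (isCharacter_of_irr D.b.2) g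
  rw [hvb, ← irr_charDegree_cast, D.deg_b, Complex.norm_intCast, Complex.norm_natCast] at hlb
  have hlb' : |vb| ≤ 27 := by exact_mod_cast hlb
  rw [abs_le] at hla' hlb'
  have hψv : ∀ ψ ∈ D.Y, (ψ : G → ℂ) g = ((va + vb - 1 : ℤ) : ℂ) := fun ψ hψ => by
    rw [D.relY ψ hψ g hreg, hva, hvb]; push_cast; ring
  have h1d : charDegree ((oneIrr G : IrrCharacter G) : G → ℂ) = 1 := by
    have := irr_charDegree_cast (oneIrr G)
    rw [show ((oneIrr G : IrrCharacter G) : G → ℂ) 1 = 1 from rfl] at this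
    exact_mod_cast this
  set t : ℤ := va + vb - 1 with ht
  -- the norm
  have hnorm : (1 : ℝ) + (va : ℝ) ^ 2 + (vb : ℝ) ^ 2 + 2 * (t : ℝ) ^ 2 +
      ∑ χ ∈ D.R, Complex.normSq ((χ : G → ℂ) g) = (c : ℝ) := by
    have h := sum_irr_mul_conj g g
    rw [if_pos (IsConj.refl g)] at h
    simp only [Complex.mul_conj] at h
    have h' : ∑ χ : IrrCharacter G, Complex.normSq ((χ : G → ℂ) g) = (c : ℝ) := by exact_mod_cast h
    rw [D.sum_all, hva, hvb, show ((oneIrr G : IrrCharacter G) : G → ℂ) g = 1 from rfl,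
      Finset.sum_congr (s₁ := D.Y) rfl (fun ψ hψ => by rw [hψv ψ hψ]), Finset.sum_const, D.cardY,
      Complex.normSq_one, Complex.normSq_intCast, Complex.normSq_intCast,
      Complex.normSq_intCast] at h'
    simp only [nsmul_eq_mul, Nat.cast_ofNat] at h'
    rw [← h']
    ring
  -- the orthogonality with the identity
  have horth : (1 : ℝ) + 6 * (va : ℝ) + 27 * (vb : ℝ) + 64 * (t : ℝ) +
      7 * ∑ χ ∈ D.R, ((charDegree (χ : G → ℂ) / 7 : ℕ) : ℝ) * ((χ : G → ℂ) g).re = 0 := by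
    have h := sum_irr_apply_mul_degree g
    rw [if_neg (fun e => by rw [e, orderOf_one] at hg; omega)] at h
    have h' := congrArg Complex.re h
    simp only [← irr_charDegree_cast, Complex.re_sum, Complex.mul_re, Complex.natCast_re,
      Complex.natCast_im, mul_zero, sub_zero, Complex.zero_re] at h'
    rw [D.sum_all, hva, hvb, show ((oneIrr G : IrrCharacter G) : G → ℂ) g = 1 from rfl, h1d, D.deg_a,
      D.deg_b, Finset.sum_congr (s₁ := D.Y) rfl (fun ψ hψ => by rw [hψv ψ hψ, D.deg_Y ψ hψ]),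
      Finset.sum_const, D.cardY,
      Finset.sum_congr (s₁ := D.R) rfl (fun χ hχ => show ((χ : G → ℂ) g).re * (charDegree (χ : G → ℂ) : ℝ) =
          7 * (((charDegree (χ : G → ℂ) / 7 : ℕ) : ℝ) * ((χ : G → ℂ) g).re) by
        obtain ⟨k, hk⟩ := D.R_deg hχ
        rw [hk, Nat.mul_div_cancel_left _ (by norm_num : 0 < 7)]
        push_cast
        ring), ← Finset.mul_sum] at h'
    simp only [nsmul_eq_mul, Nat.cast_ofNat, Complex.intCast_re, Complex.one_re, Nat.cast_one] at h'
    linarith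
  set T := ∑ χ ∈ D.R, ((charDegree (χ : G → ℂ) / 7 : ℕ) : ℝ) * ((χ : G → ℂ) g).re with hT
  have hcs : T ^ 2 ≤ 66 * ∑ χ ∈ D.R, Complex.normSq ((χ : G → ℂ) g) := by
    refine (Finset.sum_mul_sq_le_sq_mul_sq _ _ _).trans ?_
    rw [D.sum_sq hN]
    refine mul_le_mul_of_nonneg_left (Finset.sum_le_sum fun χ _ => ?_) (by norm_num)
    rw [Complex.normSq_apply, sq]
    nlinarith [sq_nonneg ((χ : G → ℂ) g).im]
  have hnn : (0 : ℝ) ≤ ∑ χ ∈ D.R, Complex.normSq ((χ : G → ℂ) g) :=
    Finset.sum_nonneg fun χ _ => Complex.normSq_nonneg _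
  set s : ℤ := 1 + 6 * va + 27 * vb + 64 * t with hs
  have hTint : 7 * T = -(s : ℝ) := by rw [hs]; push_cast; linarith
  have hs7 : s % 7 = 0 := by
    have h := sum_irr_apply_mul_degree g
    rw [if_neg (fun e => by rw [e, orderOf_one] at hg; omega)] at h
    simp only [← irr_charDegree_cast] at h
    rw [D.sum_all, hva, hvb, show ((oneIrr G : IrrCharacter G) : G → ℂ) g = 1 from rfl, h1d, D.deg_a,
      D.deg_b, Finset.sum_congr (s₁ := D.Y) rfl (fun ψ hψ => by rw [hψv ψ hψ, D.deg_Y ψ hψ]),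
      Finset.sum_const, D.cardY,
      Finset.sum_congr (s₁ := D.R) rfl (fun χ hχ => show (χ : G → ℂ) g * (charDegree (χ : G → ℂ) : ℂ) =
          7 * (((charDegree (χ : G → ℂ) / 7 : ℕ) : ℂ) * (χ : G → ℂ) g) by
        obtain ⟨k, hk⟩ := D.R_deg hχ
        rw [hk, Nat.mul_div_cancel_left _ (by norm_num : 0 < 7)]
        push_cast
        ring), ← Finset.mul_sum] at h
    set U := ∑ χ ∈ D.R, (((charDegree (χ : G → ℂ) / 7 : ℕ) : ℂ) * (χ : G → ℂ) g) with hU
    have hint : IsIntegral ℤ (((-(s : ℚ) / 7 : ℚ)) : ℂ) := by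
      rw [show (((-(s : ℚ) / 7 : ℚ)) : ℂ) = U by
        rw [hs]
        push_cast
        simp only [nsmul_eq_mul, Nat.cast_ofNat, Nat.cast_one, Int.cast_sub, Int.cast_add, Int.cast_one] at h
        linear_combination (-(1 : ℂ) / 7) * h]
      exact IsIntegral.sum _ fun χ _ => IsIntegral.mul
        (isIntegral_natCast _)
        (isIntegral_of_char (isCharacter_of_irr χ.2) g)
    obtain ⟨k, hk⟩ := exists_int_of_isIntegral_ratCast hint
    have hk' : -s = 7 * k := by
      have : ((-s : ℤ) : ℚ) = ((7 * k : ℤ) : ℚ) := by push_cast; linarith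
      exact_mod_cast this
    omega
  have hTs : T = -((s / 7 : ℤ) : ℝ) := by
    have h : (7 : ℝ) * ((s / 7 : ℤ) : ℝ) = (s : ℝ) := by
      exact_mod_cast Int.mul_ediv_cancel' (Int.dvd_of_emod_eq_zero hs7)
    linarith
  have hn1 : 1 + va * va + vb * vb + 2 * t * t ≤ (c : ℤ) := by
    have : ((1 + va * va + vb * vb + 2 * t * t : ℤ) : ℝ) ≤ ((c : ℤ) : ℝ) := by push_cast; linarith
    exact_mod_cast this
  have hn2 : s / 7 * (s / 7) ≤ 66 * ((c : ℤ) - (1 + va * va + vb * vb + 2 * t * t)) := by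
    have : ((s / 7 * (s / 7) : ℤ) : ℝ) ≤
        ((66 * ((c : ℤ) - (1 + va * va + vb * vb + 2 * t * t)) : ℤ) : ℝ) := by
      rw [hTs] at hcs
      push_cast
      nlinarith
    exact_mod_cast this
  -- integrality of the central characters
  have hia : (((6048 / c : ℕ) : ℤ) * va) % 6 = 0 ∧ (((6048 / c : ℕ) : ℤ) * vb) % 27 = 0 ∧
      (((6048 / c : ℕ) : ℤ) * t) % 32 = 0 := by
    have hh : 6048 / c = (Subgroup.centralizer ({g} : Set G)).index := by
      rw [← hidx, Nat.mul_div_cancel_left _ (Nat.card_pos)]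
    rw [hh]
    obtain ⟨ψ, hψ⟩ : D.Y.Nonempty := Finset.card_pos.1 (by rw [D.cardY]; norm_num)
    have h1 := CfsgLib.U33Degrees.dvd_classSize hva
    have h2 := CfsgLib.U33Degrees.dvd_classSize hvb
    have h3 := CfsgLib.U33Degrees.dvd_classSize (hψv ψ hψ)
    rw [D.deg_a] at h1
    rw [D.deg_b] at h2
    rw [D.deg_Y ψ hψ] at h3
    exact ⟨Int.emod_eq_zero_of_dvd h1, Int.emod_eq_zero_of_dvd h2, Int.emod_eq_zero_of_dvd h3⟩
  -- the class equation
  obtain ⟨x, hx, hx1⟩ : ∃ x ∈ (D.P : Subgroup G), x ≠ 1 :=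
    ((Subgroup.bot_or_exists_ne_one (D.P : Subgroup G)).resolve_left fun hb => by
      have : Nat.card (D.P : Subgroup G) = 7 := D.cardP
      rw [hb, Subgroup.card_bot] at this
      omega)
  have hpc := D.pairCount_eq x hx hx1 g hreg
  rw [hva, hvb, ← hc] at hpc
  set E : ℤ := 864 - 144 * va * va - 32 * vb * vb + 27 * t * t with hE
  have hpc' : (pairCount g g x : ℤ) * ((c : ℤ) * c) = 7 * E := by
    apply Int.cast_injective (α := ℂ)
    rw [hE, ht]
    push_cast
    linear_combination hpc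
  have hcpos : (0 : ℤ) < c := by exact_mod_cast Nat.card_pos
  have hE0 : 0 ≤ E := by nlinarith [mul_pos hcpos hcpos]
  have hEdvd : 7 * E % ((c : ℤ) * c) = 0 := by rw [← hpc']; exact Int.mul_emod_left _ _
  -- the search
  obtain ⟨i, hi⟩ : ∃ i : ℕ, va = 3 * (i : ℤ) - 6 := ⟨((va + 6) / 3).toNat, by omega⟩
  obtain ⟨j, hj⟩ : ∃ j : ℕ, vb = 3 * (j : ℤ) - 27 := ⟨((vb + 27) / 3).toNat, by omega⟩
  have hok : threeOk c (3 * (i : ℤ) - 6) (3 * (j : ℤ) - 27) = true := by
    rw [← hi, ← hj]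
    simp only [threeOk, Bool.and_eq_true, decide_eq_true_eq]
    exact ⟨⟨⟨⟨⟨⟨⟨hn1, hia.1⟩, hia.2.1⟩, hia.2.2⟩, hs7⟩, hn2⟩, hE0⟩, hEdvd⟩
  rcases three_search hlist (by omega) (by omega) hok with ⟨h, h'⟩ | ⟨h, h'⟩
  · left
    refine ⟨h, ?_⟩
    rw [hva, hi, h']; norm_num
  · right
    refine ⟨h, ?_⟩
    rw [hva, hi, h']; norm_num

end CfsgLib.U33Recog
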