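import Cfsg.Agent.Lib.U33Recog.Coord

/-!
# A simple group of order `6048` without elements of order nine is unique
-/

namespace CfsgLib.U33Recog

open scoped Pointwise

set_option autoImplicit false
set_option linter.unusedVariables false
set_option linter.style.haveILetI false
set_option linter.unusedSectionVars false
set_option maxHeartbeats 800000

universe u v

/-- The permutations acting as the translations, the automorphism and the standard involution. -/
def stdGens : Set (Equiv.Perm (Fin 28)) :=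
  {P | (∃ u, u < 27 ∧ ∀ i, (P i).val = tf u i.val) ∨ (∀ i, (P i).val = hf i.val) ∨
    ∀ i, (P i).val = w0 i.val}

/-- The standard group. -/
def stdGroup : Subgroup (Equiv.Perm (Fin 28)) := Subgroup.closure stdGens

variable {G : Type u} [Group G] [Finite G]

namespace Coord

variable (C : Coord G)

/-- The points. -/
def pt (i : ℕ) : Sylow 3 G := if i < 27 then C.K.φ i • C.P₁ else C.P₀

theorem pt_of_lt {i : ℕ} (hi : i < 27) : C.pt i = C.K.φ i • C.P₁ := if_pos hi

theorem pt_top : C.pt 27 = C.P₀ := if_neg (by norm_num)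

theorem pt_zero : C.pt 0 = C.P₁ := by rw [C.pt_of_lt (by norm_num), C.K.φ_zero, one_smul]

theorem pt_ne {i : ℕ} (hi : i < 27) : C.pt i ≠ C.P₀ := fun h => C.ne (by
  rw [C.pt_of_lt hi] at h
  rw [← inv_smul_smul (C.K.φ i) C.P₁, h]
  exact smul_self_sylow (inv_mem (C.mem i)))

theorem pt_bijective : Function.Bijective fun i : Fin 28 => C.pt i.val := by
  refine (Nat.bijective_iff_injective_and_card _).2 ⟨fun i j h => ?_, ?_⟩
  · simp only at h
    rcases Nat.lt_or_ge i.val 27 with hi | hi <;> rcases Nat.lt_or_ge j.val 27 with hj | hj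
    · rw [C.pt_of_lt hi, C.pt_of_lt hj] at h
      have h1 : (C.K.φ j)⁻¹ * C.K.φ i = 1 :=
        C.facts.free C.ne.symm (mul_mem (inv_mem (C.mem _)) (C.mem _)) (by rw [mul_smul, h, inv_smul_smul])
      exact Fin.ext (C.inj _ _ hi hj (inv_mul_eq_one.1 h1).symm)
    · rw [show j.val = 27 by omega, C.pt_top] at h
      exact absurd h (C.pt_ne hi)
    · rw [show i.val = 27 by omega, C.pt_top] at h
      exact absurd h.symm (C.pt_ne hj)
    · exact Fin.ext (by omega)
  · rw [Nat.card_eq_fintype_card, Fintype.card_fin, C.facts.card_sylow]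

/-- The numbering. -/
noncomputable def e : Fin 28 ≃ Sylow 3 G := Equiv.ofBijective _ C.pt_bijective

theorem e_apply (i : Fin 28) : C.e i = C.pt i.val := rfl

/-- The number of a point. -/
noncomputable def idx (R : Sylow 3 G) : ℕ := (C.e.symm R).val

theorem idx_lt (R : Sylow 3 G) : C.idx R < 28 := (C.e.symm R).isLt

theorem pt_idx (R : Sylow 3 G) : C.pt (C.idx R) = R := C.e.apply_symm_apply R

theorem pt_inj {i j : ℕ} (hi : i < 28) (hj : j < 28) (h : C.pt i = C.pt j) : i = j :=
  congrArg Fin.val (@C.pt_bijective.1 ⟨i, hi⟩ ⟨j, hj⟩ h)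

theorem idx_eq {i : ℕ} (hi : i < 28) {R : Sylow 3 G} (h : C.pt i = R) : C.idx R = i :=
  C.pt_inj (C.idx_lt R) hi ((C.pt_idx R).trans h.symm)

theorem phi_smul {u : ℕ} (hu : u < 27) (i : ℕ) (hi : i < 28) : C.K.φ u • C.pt i = C.pt (tf u i) := by
  rcases Nat.lt_or_ge i 27 with h | h
  · rw [tf, if_pos h, C.pt_of_lt (mul_lt _ _), C.K.φ_mul, mul_smul, C.pt_of_lt h]
  · rw [show i = 27 by omega, tf, if_neg (by norm_num), C.pt_top]
    exact smul_self_sylow (C.mem u)

theorem h_smul {i : ℕ} (hi : i < 28) : C.h • C.pt i = C.pt (hf i) := by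
  rcases Nat.lt_or_ge i 27 with h | h
  · rw [C.pt_of_lt (hf_lt h), C.pt_of_lt h, ← C.conj i h, ← mul_smul,
      show C.h * C.K.φ i * C.h⁻¹ = C.h * C.K.φ i * C.h⁻¹ from rfl, mul_smul (C.h * C.K.φ i) C.h⁻¹,
      inv_smul_eq_iff.2 C.fix₁.symm]
  · rw [show i = 27 by omega, hf, if_neg (by norm_num), C.pt_top]
    exact C.fix₀

theorem hp_lt' (j : ℕ) {i : ℕ} (hi : i < 28) : hp j i < 28 := by
  rcases Nat.lt_or_ge i 27 with h | h
  · exact Nat.lt_succ_of_lt (hp_lt j h)
  · rw [show i = 27 by omega, hp_top]; norm_num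

theorem hpow_smul (j : ℕ) {i : ℕ} (hi : i < 28) : C.h ^ j • C.pt i = C.pt (hp j i) := by
  induction j with
  | zero => simp [hp]
  | succ n ih =>
    rw [pow_succ', mul_smul, ih, C.h_smul (hp_lt' n hi)]
    rfl

theorem hpow_mod (j : ℕ) : C.h ^ j = C.h ^ (j % 8) := by
  rw [← C.ord, pow_mod_orderOf]

theorem decomp {g : G} (hg : g • C.P₀ = C.P₀) : ∃ v j : ℕ, v < 27 ∧ j < 8 ∧ g = C.K.φ v * C.h ^ j := by
  have hlt : C.idx (g • C.P₁) < 27 := by
    by_contra h
    have h27 : C.idx (g • C.P₁) = 27 := by have := C.idx_lt (g • C.P₁); omega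
    have := C.pt_idx (g • C.P₁)
    rw [h27, C.pt_top] at this
    exact C.ne (smul_left_cancel g (this.symm.trans hg.symm))
  set v := C.idx (g • C.P₁) with hv
  have h1 : C.K.φ v • C.P₁ = g • C.P₁ := by rw [← C.pt_of_lt hlt, hv, C.pt_idx]
  obtain ⟨j, hj, hgj⟩ := C.stab ((C.K.φ v)⁻¹ * g) (by
    rw [mul_smul, hg]; exact smul_self_sylow (inv_mem (C.mem v))) (by rw [mul_smul, ← h1, inv_smul_smul])
  exact ⟨v, j, hlt, hj, by rw [← hgj, mul_inv_cancel_left]⟩

variable [IsSimpleGroup G]

include C in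
theorem faithful {g : G} (hg : ∀ R : Sylow 3 G, g • R = R) : g = 1 := by
  let K : Subgroup G := (MulAction.toPermHom G (Sylow 3 G)).ker
  rcases Subgroup.Normal.eq_bot_or_eq_top (inferInstance : K.Normal) with h | h
  · have : g ∈ K := by
      refine MonoidHom.mem_ker.2 (Equiv.ext fun R => ?_)
      exact hg R
    rwa [h, Subgroup.mem_bot] at this
  · exfalso
    obtain ⟨x, hx⟩ := MulAction.exists_smul_eq G C.P₀ C.P₁
    have hxK : x ∈ K := h ▸ Subgroup.mem_top x
    have := congrArg (fun p : Equiv.Perm (Sylow 3 G) => p C.P₀) (MonoidHom.mem_ker.1 hxK)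
    simp only [MulAction.toPermHom_apply, MulAction.toPerm_apply, Equiv.Perm.one_apply] at this
    exact C.ne (hx ▸ this)

/-- An involution exchanging the two base points. -/
theorem exists_swap (h2 : 2 ∣ Nat.card G) :
    ∃ w : G, w * w = 1 ∧ w • C.P₀ = C.P₁ ∧ w • C.P₁ = C.P₀ := by
  haveI : Fintype G := Fintype.ofFinite G
  obtain ⟨t, ht⟩ := exists_prime_orderOf_dvd_card' (G := G) 2 h2
  have htt : t * t = 1 := by rw [← sq, ← ht, pow_orderOf_eq_one]
  obtain ⟨α, hα⟩ : ∃ α : Sylow 3 G, t • α ≠ α := by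
    by_contra h
    push Not at h
    rw [C.faithful h, orderOf_one] at ht
    omega
  obtain ⟨g₀, hg₀⟩ := MulAction.exists_smul_eq G C.P₀ α
  set n := C.idx (g₀⁻¹ • (t • α)) with hn
  have hlt : n < 27 := by
    by_contra h
    have h27 : n = 27 := by have := C.idx_lt (g₀⁻¹ • (t • α)); omega
    have := C.pt_idx (g₀⁻¹ • (t • α))
    rw [← hn, h27, C.pt_top, eq_inv_smul_iff, hg₀] at this
    exact hα this.symm
  have h1 : C.K.φ n • C.P₁ = g₀⁻¹ • (t • α) := by rw [← C.pt_of_lt hlt, hn, C.pt_idx]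
  set g := g₀ * C.K.φ n with hg
  have hg0 : g • C.P₀ = α := by rw [hg, mul_smul, smul_self_sylow (C.mem n), hg₀]
  have hg1 : g • C.P₁ = t • α := by rw [hg, mul_smul, h1, smul_inv_smul]
  refine ⟨g⁻¹ * t * g, ?_, ?_, ?_⟩
  · calc g⁻¹ * t * g * (g⁻¹ * t * g) = g⁻¹ * (t * t) * g := by group
      _ = 1 := by rw [htt]; group
  · rw [mul_smul, hg0, mul_smul, ← hg1, inv_smul_smul]
  · rw [mul_smul, hg1, mul_smul, ← mul_smul t t, htt, one_smul, ← hg0, inv_smul_smul]

/-- The coordinates generate. -/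
theorem closure_eq_top {w : G} (hw : w • C.P₀ = C.P₁) :
    Subgroup.closure ({g | ∃ u, u < 27 ∧ C.K.φ u = g} ∪ {C.h, w}) = ⊤ := by
  set L := Subgroup.closure ({g | ∃ u, u < 27 ∧ C.K.φ u = g} ∪ {C.h, w}) with hL
  have hφ : ∀ u, u < 27 → C.K.φ u ∈ L := fun u hu => Subgroup.subset_closure (Or.inl ⟨u, hu, rfl⟩)
  have hh : C.h ∈ L := Subgroup.subset_closure (Or.inr (Or.inl rfl))
  have hwL : w ∈ L := Subgroup.subset_closure (Or.inr (Or.inr rfl))
  have hstab : ∀ g : G, g • C.P₀ = C.P₀ → g ∈ L := fun g hg => by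
    obtain ⟨v, j, hv, -, rfl⟩ := C.decomp hg
    exact mul_mem (hφ v hv) (pow_mem hh j)
  refine eq_top_iff.2 fun g _ => ?_
  rcases Nat.lt_or_ge (C.idx (g • C.P₀)) 27 with h | h
  · have h1 : (C.K.φ (C.idx (g • C.P₀)) * w) • C.P₀ = g • C.P₀ := by
      rw [mul_smul, hw, ← C.pt_of_lt h, C.pt_idx]
    have hx : C.K.φ (C.idx (g • C.P₀)) * w ∈ L := mul_mem (hφ _ h) hwL
    have := mul_mem hx (hstab ((C.K.φ (C.idx (g • C.P₀)) * w)⁻¹ * g) (by
      rw [mul_smul, inv_smul_eq_iff, h1]))
    rwa [mul_inv_cancel_left] at this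
  · refine hstab g ?_
    have := C.pt_idx (g • C.P₀)
    rw [show C.idx (g • C.P₀) = 27 by have := C.idx_lt (g • C.P₀); omega, C.pt_top] at this
    exact this.symm

/-- The permutation representation in coordinates. -/
noncomputable def rho : G →* Equiv.Perm (Fin 28) :=
  C.e.symm.permCongrHom.toMonoidHom.comp (MulAction.toPermHom G (Sylow 3 G))

theorem rho_val (g : G) (i : Fin 28) : (C.rho g i).val = C.idx (g • C.pt i.val) := rfl

theorem rho_injective : Function.Injective C.rho := by
  refine (injective_iff_map_eq_one C.rho).2 fun g hg => C.faithful fun R => ?_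
  obtain ⟨i, rfl⟩ := C.e.surjective R
  have h := congrArg (fun p : Equiv.Perm (Fin 28) => C.e (p i)) hg
  simp only [Equiv.Perm.one_apply] at h
  calc g • C.e i = C.e (C.rho g i) := (C.e.apply_symm_apply _).symm.trans rfl
    _ = C.e i := h

end Coord

/-- The standard involution or one conjugate to it. -/
theorem exists_conj (C : Coord G) [IsSimpleGroup G] (h2 : 2 ∣ Nat.card G) :
    ∃ (w : G) (A B m j : ℕ), w • C.P₀ = C.P₁ ∧ m ∈ ([1, 3] : List ℕ) ∧
      (∀ i, i < 28 → af A B (C.idx (w • C.pt i)) = w0 (hp j (af A B i))) ∧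
      (∀ i, i < 28 → af A B (hf i) = hp m (af A B i)) ∧
      (∀ i, i < 28 → ∃ l, l < 28 ∧ af A B l = i) ∧
      ∀ u, u < 27 → ∀ i, i < 28 → af A B (tf u i) = tf (af A B u) (af A B i) := by
  classical
  obtain ⟨w, hww, hw0, hw1⟩ := C.exists_swap h2
  obtain ⟨k, hk, hwh⟩ := C.stab (w * C.h * w) (by rw [mul_smul, mul_smul, hw0, C.fix₁, hw1])
    (by rw [mul_smul, mul_smul, hw1, C.fix₀, hw0])
  have hinv : w⁻¹ = w := inv_eq_of_mul_eq_one_left hww
  have hkodd : k ∈ ([1, 3, 5, 7] : List ℕ) := by
    have hord : orderOf (C.h ^ k) = 8 := by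
      rw [← hwh, show w * C.h * w = MulAut.conj w C.h by simp [MulAut.conj_apply, hinv],
        MulEquiv.orderOf_eq, C.ord]
    rcases Nat.even_or_odd k with ⟨l, hl⟩ | ⟨l, hl⟩
    · exfalso
      have h4 : (C.h ^ k) ^ 4 = 1 := by
        rw [← pow_mul, hl, show (l + l) * 4 = 8 * l by ring, pow_mul, ← C.ord, pow_orderOf_eq_one,
          one_pow]
      have := orderOf_dvd_of_pow_eq_one h4
      rw [hord] at this
      omega
    · simp only [List.mem_cons, List.not_mem_nil, or_false]
      omega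
  have hcomm : ∀ n, w * C.h ^ n = C.h ^ (k * n % 8) * w := by
    intro n
    rw [← C.hpow_mod, pow_mul, ← hwh]
    induction n with
    | zero => simp
    | succ n ih =>
      calc w * C.h ^ (n + 1) = w * C.h ^ n * C.h := by rw [pow_succ, mul_assoc]
        _ = (w * C.h * w) ^ n * w * C.h * (w * w) := by rw [ih, hww, mul_one]
        _ = _ := by rw [pow_succ]; simp only [mul_assoc]
  set wf : ℕ → ℕ := fun i => C.idx (w • C.pt i) with hwf
  have hwpt : ∀ i, w • C.pt i = C.pt (wf i) := fun i => (C.pt_idx _).symm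
  have hwlt : ∀ i, wf i < 28 := fun i => C.idx_lt _
  have hw00 : wf 0 = 27 := C.idx_eq (by norm_num) (by rw [C.pt_top, C.pt_zero, hw1])
  have hw27 : wf 27 = 0 := C.idx_eq (by norm_num) (by rw [C.pt_top, C.pt_zero, hw0])
  have hinvol : ∀ i, i < 28 → wf (wf i) = i := fun i hi =>
    C.idx_eq hi (by rw [← hwpt i, ← mul_smul, hww, one_smul])
  have heq : ∀ n i, i < 28 → wf (hp n i) = hp (k * n % 8) (wf i) := fun n i hi =>
    C.idx_eq (Coord.hp_lt' _ (hwlt i)) (by
      rw [← C.hpow_smul _ (hwlt i), ← hwpt, ← mul_smul, ← hcomm, mul_smul, C.hpow_smul n hi])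
  have hmid : ∀ i, i < 27 → i ≠ 0 → wf i < 27 ∧ wf i ≠ 0 := by
    intro i hi h0
    have := hwlt i
    have hh := hinvol i (by omega)
    refine ⟨?_, fun e => ?_⟩
    · by_contra hge
      rw [show wf i = 27 by omega, hw27] at hh
      exact h0 hh.symm
    · rw [e, hw00] at hh
      omega
  set ys : List ℕ := reps.map wf with hys
  -- the map is determined
  have hwv : ∀ (m i : ℕ), i < 28 → wv k (ys.take m) i = 28 ∨ wv k (ys.take m) i = wf i := by
    intro m i hi
    unfold wv
    split_ifs with h0 h27 hlen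
    · exact Or.inr (h0 ▸ hw00.symm)
    · exact Or.inr (h27 ▸ hw27.symm)
    · refine Or.inr ?_
      have hl := List.all_eq_true.1 locs_ok i (List.mem_range.2 (by omega))
      simp only [Bool.or_eq_true, beq_iff_eq, h0, Bool.and_eq_true, decide_eq_true_eq, false_or] at hl
      rw [List.length_take] at hlen
      have hget : (ys.take m).getD (locO i) 0 = wf (reps.getD (locO i) 0) := by
        have hlr : locO i < reps.length := hl.1
        rw [List.getD_eq_getElem _ _ (by rw [List.length_take]; exact hlen), List.getElem_take,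
          List.getD_eq_getElem _ _ hlr]
        simp [hys]
      have hr : reps.getD (locO i) 0 < 28 := by
        have := hl.1
        interval_cases (locO i) <;> decide
      conv_rhs => rw [← hl.2]
      rw [hget, heq _ _ hr]
    · exact Or.inl rfl
  have hpart : ∀ m, partOk k (ys.take m) = true := by
    intro m
    simp only [partOk, List.all_eq_true, Bool.or_eq_true, beq_iff_eq]
    intro r hr
    have hr28 : r < 28 := by
      simp only [reps, List.mem_cons, List.not_mem_nil, or_false] at hr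
      omega
    rcases hwv m r hr28 with h | h
    · exact Or.inl (Or.inl h)
    · rcases hwv m (wf r) (hwlt r) with h' | h'
      · exact Or.inr (by rw [h]; exact h')
      · exact Or.inl (Or.inr (by rw [h, h']; exact hinvol r hr28))
  have hnc : ∀ r ∈ ([1, 2, 5] : List ℕ), wf r ∈ ncs := by
    intro r hr
    simp only [List.mem_cons, List.not_mem_nil, or_false] at hr
    have hr27 : r < 27 := by omega
    obtain ⟨h1, h2⟩ := hmid r hr27 (by omega)
    simp only [ncs, List.mem_filter, List.mem_range, decide_eq_true_eq]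
    refine ⟨h1, fun h9 => ?_⟩
    have hfix : hp (k * 2 % 8) (wf r) = wf r := by
      have hw9 : wf r = 9 ∨ wf r = 18 := by omega
      simp only [List.mem_cons, List.not_mem_nil, or_false] at hkodd
      rcases hw9 with e | e <;> rcases hkodd with rfl | rfl | rfl | rfl <;> rw [e] <;> decide +kernel
    rw [← heq 2 r (by omega)] at hfix
    have e : hp 2 r = r := by
      have := congrArg wf hfix
      rwa [hinvol _ (Coord.hp_lt' 2 (by omega)), hinvol r (by omega)] at this
    revert e
    rcases hr with rfl | rfl | rfl <;> decide +kernel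
  have h9 : wf 9 ∈ ([9, 18] : List ℕ) := by
    obtain ⟨h1, h2⟩ := hmid 9 (by norm_num) (by norm_num)
    have hfix : hp (k * 2 % 8) (wf 9) = wf 9 := by
      rw [← heq 2 9 (by norm_num), show hp 2 9 = 9 by decide +kernel]
    have hchk : ([1, 3, 5, 7] : List ℕ).all (fun k => (List.range 27).all fun y =>
        !(hp (k * 2 % 8) y == y) || y == 0 || y == 9 || y == 18) = true := by decide +kernel
    have := List.all_eq_true.1 (List.all_eq_true.1 hchk k hkodd) _ (List.mem_range.2 h1)
    simp only [hfix, beq_self_eq_true, Bool.not_true, Bool.false_or, Bool.or_eq_true, beq_iff_eq, h2,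
      false_or] at this
    simpa using this
  have hext : ∀ (m : ℕ) (l : List (List ℕ)) (pool : List ℕ), ys.take m ∈ l →
      (∀ hm : m < ys.length, ys[m] ∈ pool) → m < ys.length → ys.take (m + 1) ∈ extend k l pool := by
    intro m l pool hl hp' hm
    simp only [extend, List.mem_filter, List.mem_flatMap, List.mem_map]
    exact ⟨⟨ys.take m, hl, ys[m], hp' hm, List.take_concat_get' ys m hm⟩, hpart (m + 1)⟩
  have hcand : ys ∈ cands k := by
    have h0 : ys.take 0 ∈ ([[]] : List (List ℕ)) := by simp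
    have h1 := hext 0 _ ncs h0 (fun _ => by simpa [hys, reps] using hnc 1 (by simp)) (by simp [hys, reps])
    have h2 := hext 1 _ ncs h1 (fun _ => by simpa [hys, reps] using hnc 2 (by simp)) (by simp [hys, reps])
    have h3 := hext 2 _ ncs h2 (fun _ => by simpa [hys, reps] using hnc 5 (by simp)) (by simp [hys, reps])
    have h4 := hext 3 _ [9, 18] h3 (fun _ => by simpa [hys, reps] using h9) (by simp [hys, reps])
    rwa [show ys.take (3 + 1) = ys from List.take_of_length_le (by simp [hys, reps])] at h4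
  have hfull : ∀ i, i < 28 → wv k ys i = wf i := by
    intro i hi
    have h := hwv 4 i hi
    rw [List.take_of_length_le (by simp [hys, reps])] at h
    refine h.resolve_left fun e => ?_
    unfold wv at e
    split_ifs at e with h0 h27 hlen
    · omega
    · have := hp_lt (k * locN i % 8) (i := ys.getD (locO i) 0) (by
        have hlr : locO i < reps.length := by simpa [hys] using hlen
        rw [List.getD_eq_getElem _ _ hlen]
        simp only [hys, List.getElem_map]
        have hmem : reps[locO i] ∈ ([1, 2, 5, 9] : List ℕ) := List.getElem_mem hlr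
        generalize reps[locO i] = r at hmem ⊢
        simp only [List.mem_cons, List.not_mem_nil, or_false] at hmem
        exact (hmid _ (by omega) (by omega)).1)
      omega
    · have hl := List.all_eq_true.1 locs_ok i (List.mem_range.2 (by omega))
      simp only [Bool.or_eq_true, beq_iff_eq, h0, Bool.and_eq_true, decide_eq_true_eq, false_or] at hl
      exact hlen (by simpa [hys, reps] using hl.1)
  have htrans : reps.all (transOk k ys) = true := by
    rw [List.all_eq_true]
    intro u hu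
    simp only [reps, List.mem_cons, List.not_mem_nil, or_false] at hu
    have hu27 : u < 27 := by omega
    obtain ⟨hv1, hv2⟩ := hmid u hu27 (by omega)
    set g := w * (C.K.φ (wf u))⁻¹ * w * C.K.φ u * w with hg
    have hg0 : g • C.P₀ = C.P₀ := by
      rw [hg, mul_smul, hw0, mul_smul, ← C.pt_of_lt hu27, mul_smul, hwpt, C.pt_of_lt hv1, mul_smul,
        inv_smul_smul, hw1]
    obtain ⟨v, j, hv, hj, hgv⟩ := C.decomp hg0
    have htl : ∀ a b, b < 28 → tf a b < 28 := fun a b hb => by
      unfold tf; split_ifs <;> [exact Nat.lt_succ_of_lt (mul_lt _ _); norm_num]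
    have hgi : ∀ i, i < 28 → C.idx (g • C.pt i) = wf (tf (invC (wf u)) (wf (tf u (wf i)))) := by
      intro i hi
      refine C.idx_eq (hwlt _) ?_
      rw [hg, mul_smul, hwpt, mul_smul, C.phi_smul hu27 _ (hwlt i), mul_smul, hwpt, mul_smul,
        ← C.K.φ_inv hv1, C.phi_smul (model_inv hv1).2.2 _ (hwlt _), hwpt]
    have hgj : ∀ i, i < 28 → C.idx (g • C.pt i) = tf v (hp j i) := by
      intro i hi
      refine C.idx_eq (htl _ _ (Coord.hp_lt' j hi)) ?_
      rw [hgv, mul_smul, C.hpow_smul j hi, C.phi_smul hv _ (Coord.hp_lt' j hi)]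
    have hv0 : tf v (hp j 0) = v := by
      have : hp j 0 = 0 := by
        clear hj hgv hgj
        induction j with
        | zero => rfl
        | succ n ih => show hf (hp n 0) = 0; rw [ih]; decide +kernel
      rw [this, tf, if_pos (by norm_num)]
      unfold mulC; omega
    have hin : ∀ i, i < 28 → wv k ys (tf (invC (wv k ys u)) (wv k ys (tf u (wv k ys i)))) =
        tf v (hp j i) := by
      intro i hi
      rw [hfull i hi, hfull _ (htl _ _ (hwlt i)), hfull u (by omega), hfull _ (htl _ _ (hwlt _)),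
        ← hgi i hi, hgj i hi]
    simp only [transOk, List.any_eq_true, List.all_eq_true, List.mem_range, beq_iff_eq]
    refine ⟨j, hj, fun i hi => ?_⟩
    rw [hin i hi, hin 0 (by norm_num), hv0]
  have hok := List.all_eq_true.1 (List.all_eq_true.1 search_ok k hkodd) ys hcand
  simp only [htrans, Bool.not_true, Bool.false_or, conjOk, List.any_eq_true, Bool.and_eq_true,
    List.all_eq_true, List.mem_range, beq_iff_eq] at hok
  obtain ⟨⟨A, m⟩, hAm, j, hj, ⟨⟨h1, h2'⟩, h3⟩, h4⟩ := hok
  refine ⟨w, A, hp m A, m, j, hw0, ?_, fun i hi => ?_, h2', fun i hi => h3 i hi, h4⟩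
  · simp only [auts, List.mem_cons, List.not_mem_nil, or_false, Prod.mk.injEq] at hAm ⊢
    omega
  · rw [← h1 i hi, hfull i hi]

/-- A simple group of order `6048` without elements of order nine is the standard group. -/
theorem exists_mulEquiv_std [IsSimpleGroup G] (hN : Nat.card G = 6048) (h9 : ∀ x : G, orderOf x ≠ 9) :
    Nonempty (G ≃* stdGroup) := by
  classical
  obtain ⟨C⟩ := exists_coord hN h9
  obtain ⟨w, A, B, m, j, hw0, hm, hwτ, hhτ, hsurj, htτ⟩ := exists_conj C (by rw [hN]; norm_num)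
  have hτlt : ∀ i, i < 28 → af A B i < 28 := fun i hi => by
    unfold af; split_ifs <;> [exact Nat.lt_succ_of_lt (homC_lt _ _ _); norm_num]
  have hτ27 : ∀ u, u < 27 → af A B u < 27 := fun u hu => by
    unfold af; rw [if_pos hu]; exact homC_lt _ _ _
  let τf : Fin 28 → Fin 28 := fun i => ⟨af A B i, hτlt i i.isLt⟩
  have hτb : Function.Bijective τf := Finite.surjective_iff_bijective.1 fun i => by
    obtain ⟨l, hl, he⟩ := hsurj i i.isLt
    exact ⟨⟨l, hl⟩, Fin.ext he⟩
  let τ : Equiv.Perm (Fin 28) := Equiv.ofBijective τf hτb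
  let Γ : G →* Equiv.Perm (Fin 28) := (MulAut.conj τ).toMonoidHom.comp C.rho
  have hΓinj : Function.Injective Γ := fun x y h => C.rho_injective ((MulAut.conj τ).injective h)
  have hΓ : ∀ (g : G) (l : Fin 28), (Γ g (τ l)).val = af A B (C.idx (g • C.pt l.val)) := fun g l => by
    show (τ (C.rho g (τ⁻¹ (τ l)))).val = _
    rw [show τ⁻¹ (τ l) = l from τ.symm_apply_apply l]
    rfl
  have hτs : ∀ i : Fin 28, ∃ l, τ l = i := τ.surjective
  have hT : ∀ u, u < 27 → ∀ i : Fin 28, (Γ (C.K.φ u) i).val = tf (af A B u) i.val := by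
    intro u hu i
    obtain ⟨l, rfl⟩ := hτs i
    rw [hΓ, C.phi_smul hu _ l.isLt, C.idx_eq ?_ rfl, htτ u hu _ l.isLt]
    · rfl
    · unfold tf; split_ifs <;> [exact Nat.lt_succ_of_lt (mul_lt _ _); norm_num]
  have hH1 : ∀ i : Fin 28, (Γ C.h i).val = hp m i.val := by
    intro i
    obtain ⟨l, rfl⟩ := hτs i
    rw [hΓ, C.h_smul l.isLt, C.idx_eq ?_ rfl, hhτ _ l.isLt]
    · rfl
    · exact Coord.hp_lt' 1 l.isLt
  have hHn : ∀ (n : ℕ) (i : Fin 28), (Γ (C.h ^ n) i).val = hp (m * n) i.val := by
    intro n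
    induction n with
    | zero => intro i; simp [hp]
    | succ n ih =>
      intro i
      rw [pow_succ', map_mul, Equiv.Perm.mul_apply, hH1, ih]
      have hadd : ∀ a b x : ℕ, hp a (hp b x) = hp (a + b) x := fun a b x => by
        induction a with
        | zero => simp [hp]
        | succ a iha => rw [show a + 1 + b = a + b + 1 by ring]; show hf (hp a (hp b x)) = hf _; rw [iha]
      rw [hadd, show m + m * n = m * (n + 1) by ring]
  set H0 := Γ (C.h ^ m) with hH0
  have hH0v : ∀ i : Fin 28, (H0 i).val = hf i.val := by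
    intro i
    rw [hH0, hHn]
    have hchk : ([1, 3] : List ℕ).all (fun m => (List.range 28).all fun x => hp (m * m) x == hf x) = true := by
      decide +kernel
    have := List.all_eq_true.1 (List.all_eq_true.1 hchk m hm) i.val (List.mem_range.2 i.isLt)
    simpa using this
  have hH0pow : ∀ (n : ℕ) (i : Fin 28), ((H0 ^ n) i).val = hp n i.val := by
    intro n
    induction n with
    | zero => intro i; simp [hp]
    | succ n ih =>
      intro i
      rw [pow_succ', Equiv.Perm.mul_apply, hH0v, ih]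
      rfl
  set W0 := Γ w * (H0 ^ j)⁻¹ with hW0
  have hW0v : ∀ i : Fin 28, (W0 i).val = w0 i.val := by
    intro i
    rw [hW0, Equiv.Perm.mul_apply]
    obtain ⟨l, hl⟩ := hτs ((H0 ^ j)⁻¹ i)
    rw [← hl, hΓ, hwτ _ l.isLt]
    have hi : (H0 ^ j) (τ l) = i := by rw [hl]; exact (H0 ^ j).apply_symm_apply i
    have := congrArg Fin.val hi
    rw [hH0pow] at this
    rw [← this]
    rfl
  refine ⟨(MonoidHom.ofInjective hΓinj).trans (MulEquiv.subgroupCongr ?_)⟩
  apply le_antisymm
  · rw [MonoidHom.range_eq_map, ← C.closure_eq_top hw0, MonoidHom.map_closure, Subgroup.closure_le]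
    have hH0m : H0 ∈ stdGroup := Subgroup.subset_closure (Or.inr (Or.inl hH0v))
    rintro _ ⟨g, hg, rfl⟩
    rcases hg with ⟨u, hu, rfl⟩ | rfl | rfl
    · exact Subgroup.subset_closure (Or.inl ⟨_, hτ27 u hu, hT u hu⟩)
    · have : Γ C.h = H0 ^ m := by
        refine Equiv.ext fun i => Fin.ext ?_
        rw [hH1, hH0pow]
      rw [SetLike.mem_coe, this]
      exact pow_mem hH0m m
    · have : Γ g = W0 * H0 ^ j := by rw [hW0, inv_mul_cancel_right]
      rw [SetLike.mem_coe, this]
      exact mul_mem (Subgroup.subset_closure (Or.inr (Or.inr hW0v))) (pow_mem hH0m j)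
  · rw [stdGroup, Subgroup.closure_le]
    rintro P (⟨u, hu, hP⟩ | hP | hP)
    · obtain ⟨l, hl, he⟩ := hsurj u (by omega)
      have hl27 : l < 27 := by
        by_contra h
        rw [show l = 27 by omega, af, if_neg (by norm_num)] at he
        omega
      refine ⟨C.K.φ l, Equiv.ext fun i => Fin.ext ?_⟩
      rw [hT l hl27, he, hP]
    · exact ⟨C.h ^ m, Equiv.ext fun i => Fin.ext (by rw [← hH0, hH0v, hP])⟩
    · refine ⟨w * ((C.h ^ m) ^ j)⁻¹, Equiv.ext fun i => Fin.ext ?_⟩
      rw [map_mul, map_inv, map_pow, ← hH0, ← hW0, hW0v, hP]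

/-- Simple groups of order `6048` without elements of order nine are isomorphic. -/
theorem unique6048 {H : Type v} [Group H] [Finite H] [IsSimpleGroup G] [IsSimpleGroup H]
    (hG : Nat.card G = 6048) (hH : Nat.card H = 6048) (hG9 : ∀ x : G, orderOf x ≠ 9)
    (hH9 : ∀ x : H, orderOf x ≠ 9) : Nonempty (G ≃* H) := by
  obtain ⟨e₁⟩ := exists_mulEquiv_std hG hG9
  obtain ⟨e₂⟩ := exists_mulEquiv_std hH hH9
  exact ⟨e₁.trans e₂.symm⟩

end CfsgLib.U33Recog
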